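import Mathlib
import Cfsg.Agent.Lib.Classical.DicksonProper
import Cfsg.Agent.Lib.Classical.SL

/-!
Two opposite root groups over a subfield, one twisted by a generator of the field, generate `SL₂`.
-/

set_option autoImplicit false

namespace Cfsg.Agent.DicksonAlpha

open Matrix PStable

variable {k F : Type*} [Field k] [Field F] [Algebra k F] (α : F)

/-- The group generated by the two root groups. -/
def grp : Subgroup (Matrix.SpecialLinearGroup (Fin 2) F) :=
  Subgroup.closure (Set.range (fun c : k => upp (algebraMap k F c)) ∪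
    Set.range (fun c : k => low (algebraMap k F c * α)))

variable {α}

local notation "H" => grp (k := k) α
local notation "SL" => Matrix.SpecialLinearGroup (Fin 2) F
local notation "M2" => Matrix (Fin 2) (Fin 2) F

theorem upp_mem (c : k) : (upp (algebraMap k F c) : SL) ∈ H := Subgroup.subset_closure (Or.inl ⟨c, rfl⟩)

theorem low_mem (c : k) : (low (algebraMap k F c * α) : SL) ∈ H := Subgroup.subset_closure (Or.inr ⟨c, rfl⟩)

theorem top_of_all {K : Subgroup SL} (hu : ∀ x : F, upp x ∈ K) (hl : ∀ x : F, low x ∈ K) : K = ⊤ := by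
  rw [eq_top_iff, ← ClassicalSL.closure_elemTransvections (ι := Fin 2) (F := F), Subgroup.closure_le]
  rintro _ ⟨i, j, hij, c, rfl⟩
  fin_cases i <;> fin_cases j
  · exact absurd rfl hij
  · rw [SetLike.mem_coe]
    convert hu c using 1
    apply Subtype.ext
    ext a b
    fin_cases a <;> fin_cases b <;>
      simp [Matrix.SpecialLinearGroup.transvection_coe, upp_val, Matrix.single]
  · rw [SetLike.mem_coe]
    convert hl c using 1
    apply Subtype.ext
    ext a b
    fin_cases a <;> fin_cases b <;>
      simp [Matrix.SpecialLinearGroup.transvection_coe, low_val, Matrix.single]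
  · exact absurd rfl hij

theorem conjGL_eq {g : GL (Fin 2) F} {x y : SL} (h : (g : M2) * y = (x : M2) * g) : conjGL g x = y := by
  apply Subtype.ext
  rw [conjGL_val, mul_assoc, ← h, ← mul_assoc, ← Units.val_mul, inv_mul_cancel, Units.val_one, one_mul]

theorem conjGL_mem {g : GL (Fin 2) F} (hu : ∀ c : k, conjGL g (upp (algebraMap k F c)) ∈ H)
    (hl : ∀ c : k, conjGL g (low (algebraMap k F c * α)) ∈ H) {x : SL} (hx : x ∈ H) : conjGL g x ∈ H := by
  have : H ≤ (H).comap (conjGL g) := by
    rw [grp, Subgroup.closure_le]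
    rintro _ (⟨c, rfl⟩ | ⟨c, rfl⟩)
    exacts [hu c, hl c]
  exact this hx

/-- Exchanging the two root groups. -/
theorem low_of_upp (hα : α ≠ 0) {x : F} (hx : upp x ∈ H) : low (α * x) ∈ H := by
  let W : GL (Fin 2) F := Matrix.GeneralLinearGroup.mkOfDetNeZero !![0, 1; α, 0] (by simp [Matrix.det_fin_two, hα])
  have e1 : ∀ y : F, conjGL W (upp y) = low (α * y) := fun y => conjGL_eq (by
    show !![0, 1; α, 0] * _ = _ * !![0, 1; α, 0]
    rw [upp_val, low_val]; apply ext2 <;> simp [Matrix.mul_apply, Fin.sum_univ_two, mul_comm])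
  have e2 : ∀ y : F, conjGL W (low (y * α)) = upp y := fun y => conjGL_eq (by
    show !![0, 1; α, 0] * _ = _ * !![0, 1; α, 0]
    rw [upp_val, low_val]; apply ext2 <;> simp [Matrix.mul_apply, Fin.sum_univ_two, mul_comm])
  have := conjGL_mem (α := α) (g := W) (fun c => by rw [e1, mul_comm]; exact low_mem c)
    (fun c => by rw [e2]; exact upp_mem c) hx
  rwa [e1] at this

/-- Scaling by the ground field. -/
theorem upp_smul {x : F} (hx : upp x ∈ H) (t : k) : upp (x * algebraMap k F t) ∈ H := by
  by_cases ht : t = 0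
  · rw [ht, map_zero, mul_zero, upp_zero]; exact one_mem _
  have ht' : algebraMap k F t ≠ 0 := by simpa using ht
  let D : GL (Fin 2) F := Matrix.GeneralLinearGroup.mkOfDetNeZero !![1, 0; 0, algebraMap k F t]
    (by simp [Matrix.det_fin_two, ht])
  have e1 : ∀ y : F, conjGL D (upp y) = upp (y * algebraMap k F t) := fun y => conjGL_eq (by
    show !![1, 0; 0, algebraMap k F t] * _ = _ * !![1, 0; 0, algebraMap k F t]
    rw [upp_val, upp_val]; apply ext2 <;> simp [Matrix.mul_apply, Fin.sum_univ_two])
  have e2 : ∀ y : F, conjGL D (low y) = low (y / algebraMap k F t) := fun y => conjGL_eq (by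
    show !![1, 0; 0, algebraMap k F t] * _ = _ * !![1, 0; 0, algebraMap k F t]
    rw [low_val, low_val]; apply ext2 <;> simp [Matrix.mul_apply, Fin.sum_univ_two]
    field_simp)
  have := conjGL_mem (α := α) (g := D) (fun c => by rw [e1, ← map_mul]; exact upp_mem (c * t))
    (fun c => by
      rw [e2, mul_div_right_comm, ← map_div₀]; exact low_mem (c / t)) hx
  rwa [e1] at this

/-- The group of upper translations. -/
theorem top_of_upp (hα : α ≠ 0) (hu : ∀ x : F, upp x ∈ H) : H = ⊤ :=
  top_of_all hu fun x => by simpa [mul_div_cancel₀ x hα] using low_of_upp hα (hu (x / α))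

/-! ### finite fields -/

theorem trace_eq_two_of_pow {p : ℕ} [Fact p.Prime] [CharP F p] {y : SL} {m : ℕ} (h : y ^ p ^ m = 1) :
    Matrix.trace (y : M2) = 2 := by
  have h' : ((y : M2)) ^ p ^ m = 1 := by rw [← Matrix.SpecialLinearGroup.coe_pow, h, Matrix.SpecialLinearGroup.coe_one]
  have h0 : ((y : M2) - 1) ^ p ^ m = 0 := by
    rw [sub_pow_char_pow_of_commute (p := p) (n := m) (h := Commute.one_right (y : M2)), h', one_pow, sub_self]
  have ht : Matrix.trace ((y : M2) - 1) = 0 := by
    have hn : IsNilpotent ((y : M2) - 1) := ⟨_, h0⟩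
    exact (Matrix.isNilpotent_trace_of_isNilpotent hn).eq_zero
  rw [Matrix.trace_sub, Matrix.trace_one, sub_eq_zero] at ht
  simpa using ht

theorem finite_case [Finite F] (h2 : (2 : k) ≠ 0) (h3 : Nat.card k ≠ 3)
    (hgen : IntermediateField.adjoin k ({α} : Set F) = ⊤) (hα : α ≠ 0) : H = ⊤ := by
  classical
  haveI : Finite k := Finite.of_injective _ (algebraMap k F).injective
  haveI : Fintype k := Fintype.ofFinite k
  obtain ⟨p, hpF⟩ := CharP.exists F
  haveI hpp : Fact p.Prime := ⟨CharP.char_is_prime F p⟩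
  haveI : CharP k p := (algebraMap k F).charP (algebraMap k F).injective p
  have h2F : (2 : F) ≠ 0 := fun h => h2 ((map_eq_zero (algebraMap k F)).1 (by rw [map_ofNat]; exact h))
  haveI : NeZero (2 : F) := ⟨h2F⟩
  haveI : Fintype F := Fintype.ofFinite F
  have hp2 : p ≠ 2 := by
    rintro rfl; exact h2F (CharP.cast_eq_zero F 2)
  set G := (H).map (PSL2Inv.pr (F := F)) with hG
  have hmem : ∀ x ∈ H, PSL2Inv.pr x ∈ G := fun x hx => ⟨x, hx, rfl⟩
  by_cases htop : G = ⊤
  · refine top_of_upp hα fun x => ?_
    obtain ⟨h, hh, e⟩ : PSL2Inv.pr (upp (x / 2)) ∈ G := htop ▸ Subgroup.mem_top _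
    have hz : IsSc (h⁻¹ * upp (x / 2)) := Dickson.pr_eq_one.1 (by rw [map_mul, map_inv, e, inv_mul_cancel])
    set z := h⁻¹ * upp (x / 2) with hz'
    have hzz : z * z = 1 := by
      refine Subtype.ext ?_
      rcases hz.eq_or_eq with h' | h' <;>
        simp [Matrix.SpecialLinearGroup.coe_mul, h']
    have hu : upp (x / 2) = h * z := by rw [hz', mul_inv_cancel_left]
    have : (upp x : SL) = h * h := by
      calc (upp x : SL) = upp (x / 2) * upp (x / 2) := by rw [upp_mul, add_halves]
        _ = h * (z * h) * z := by rw [hu]; simp only [mul_assoc]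
        _ = h * h * (z * z) := by rw [hz.commute h]; simp only [mul_assoc]
        _ = h * h := by rw [hzz, mul_one]
    rw [this]; exact mul_mem hh hh
  exfalso
  let φ : Multiplicative k →* ↥G := (((PSL2Inv.pr (F := F)).comp
    { toFun := fun c => upp (algebraMap k F c.toAdd)
      map_one' := by simp [upp_zero]
      map_mul' := fun a b => by rw [upp_mul]; simp }).codRestrict G fun c => hmem _ (upp_mem _))
  have hφ : Function.Injective φ := by
    refine (injective_iff_map_eq_one φ).2 fun c hc => ?_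
    have h0 : PSL2Inv.pr (upp (algebraMap k F c.toAdd)) = 1 := congrArg Subtype.val hc
    by_contra hne
    refine not_isSc_upp (F := F) (fun h0' => hne ?_) (Dickson.pr_eq_one.1 h0)
    simpa using h0'
  have hkdvd : Nat.card k ∣ Nat.card G := by
    have := Subgroup.card_dvd_of_injective φ hφ
    rwa [Nat.card_congr (Multiplicative.toAdd (α := k))] at this
  obtain ⟨j, -, hj⟩ := FiniteField.card k p
  rw [← Nat.card_eq_fintype_card] at hj
  have hpG : p ∣ Nat.card G := (hj ▸ dvd_pow_self p j.pos.ne').trans hkdvd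
  have hpge : 3 ≤ p := by have := hpp.out.two_le; omega
  rcases Dickson.classify_proper' p htop with ⟨m, hm, hc⟩ | ⟨S, hS⟩ | ⟨-, h, ⟨e⟩⟩ | ⟨-, h, ⟨e⟩⟩ | ⟨-, h, ⟨e⟩⟩ |
      ⟨K, i1, i2, m, hm2, hcard, ⟨f, g, hg⟩, -⟩
  · have hp1 : p ∣ Nat.card F := by
      obtain ⟨l, -, hl⟩ := FiniteField.card F p
      rw [Nat.card_eq_fintype_card, hl]
      exact dvd_pow_self p l.pos.ne'
    have hmd : p ∣ m := by
      rcases hc with ⟨-, hc⟩ | ⟨⟨e⟩⟩
      · rwa [hc] at hpG
      · rw [Nat.card_congr e.toEquiv, DihedralGroup.nat_card] at hpG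
        exact (hpp.out.dvd_mul.1 hpG).resolve_left fun h => by have := Nat.le_of_dvd (by omega) h; omega
    rcases hm with hm | hm
    · have := (Nat.dvd_add_right hp1).1 ((dvd_mul_of_dvd_right hmd _).trans hm)
      exact hpp.out.not_dvd_one this
    · have h1 : p ∣ Nat.card F - 1 := (dvd_mul_of_dvd_right hmd _).trans hm
      have := Nat.dvd_sub hp1 h1
      rw [Nat.sub_sub_self Finite.card_pos] at this
      exact hpp.out.not_dvd_one this
  · haveI : Finite (Matrix.ProjectiveSpecialLinearGroup (Fin 2) F) := inferInstance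
    have hin : ∀ x ∈ H, x ^ p = 1 → PSL2Inv.pr x ∈ (S : Subgroup _) := by
      intro x hx hxp
      set q := PSL2Inv.pr x with hq
      have hqN := hS (hmem x hx)
      have hP : IsPGroup p ↥(Subgroup.zpowers q ⊔ (S : Subgroup _)) := by
        refine IsPGroup.to_sup_of_normal_right' (fun ⟨y, hy⟩ => ⟨1, ?_⟩) S.isPGroup' ((Subgroup.zpowers_le).2 hqN)
        obtain ⟨i, rfl⟩ := hy
        apply Subtype.ext
        show (q ^ i) ^ (p ^ 1) = 1
        rw [pow_one, ← zpow_natCast, ← _root_.zpow_mul, mul_comm, _root_.zpow_mul, zpow_natCast, hq, ← map_pow, hxp, map_one,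
          _root_.one_zpow]
      rw [← S.is_maximal' hP le_sup_right]
      exact (le_sup_left : Subgroup.zpowers q ≤ _) (Subgroup.mem_zpowers q)
    have key : ∀ c : k, c ≠ 0 → algebraMap k F c * α = -4 := by
      intro c hc
      set y := (upp (algebraMap k F c) : SL) * low α with hy
      have hl : (low α : SL) ∈ H := by simpa using low_mem (k := k) (α := α) 1
      have hlp : (low α : SL) ^ p = 1 := by
        have : ∀ n : ℕ, (low α : SL) ^ n = low ((n : F) * α) := fun n => by
          induction n with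
          | zero => exact Subtype.ext (by simp [low_val, Matrix.one_fin_two])
          | succ n ih => rw [pow_succ, ih, low_mul]; push_cast; ring_nf
        rw [this, CharP.cast_eq_zero, zero_mul]
        exact Subtype.ext (by simp [low_val, Matrix.one_fin_two])
      have hyS : PSL2Inv.pr y ∈ (S : Subgroup _) := by
        rw [map_mul]; exact mul_mem (hin _ (upp_mem c) (upp_pow_char _)) (hin _ hl hlp)
      obtain ⟨i, hi⟩ := S.isPGroup' ⟨_, hyS⟩
      have hi' : PSL2Inv.pr (y ^ p ^ i) = 1 := by rw [map_pow]; exact congrArg Subtype.val hi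
      have hsq : (y ^ 2) ^ p ^ i = 1 := by
        rw [← pow_mul, mul_comm, pow_mul]
        refine Subtype.ext ?_
        rcases (Dickson.pr_eq_one.1 hi').eq_or_eq with h' | h' <;>
          simp [pow_two, Matrix.SpecialLinearGroup.coe_mul, h']
      have ht := trace_eq_two_of_pow hsq
      have hyv : (y : M2) = !![1 + algebraMap k F c * α, algebraMap k F c; α, 1] := by
        rw [hy, Matrix.SpecialLinearGroup.coe_mul, upp_val, low_val]
        apply ext2 <;> simp [Matrix.mul_apply, Fin.sum_univ_two]
      rw [Matrix.SpecialLinearGroup.coe_pow, hyv, pow_two, Matrix.trace_fin_two] at ht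
      simp [Matrix.mul_apply, Fin.sum_univ_two] at ht
      have h4 : algebraMap k F c * α * (algebraMap k F c * α + 4) = 0 := by linear_combination ht
      rcases mul_eq_zero.1 h4 with h' | h'
      · exact absurd h' (mul_ne_zero ((map_ne_zero _).2 hc) hα)
      · linear_combination h'
    have e1 := key 1 one_ne_zero
    have e2 := key (-1) (neg_ne_zero.2 one_ne_zero)
    rw [map_neg] at e2
    have e3 : (2 : F) * (2 * 2) = 0 := by linear_combination e1 + e2
    exact mul_ne_zero h2F (mul_ne_zero h2F h2F) e3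
  · rw [Nat.card_congr e.toEquiv, alternatingGroup.card_of_card_eq_four (by simp),
      show (12 : ℕ) = 2 * 2 * 3 by norm_num] at hpG
    rcases hpp.out.dvd_mul.1 hpG with h' | h'
    · rcases hpp.out.dvd_mul.1 h' with h' | h' <;> exact hp2 ((Nat.prime_dvd_prime_iff_eq hpp.out Nat.prime_two).1 h')
    · exact h ((Nat.prime_dvd_prime_iff_eq hpp.out Nat.prime_three).1 h')
  · rw [Nat.card_congr e.toEquiv, Nat.card_perm, Nat.card_fin,
      show Nat.factorial 4 = 2 * 2 * 2 * 3 by norm_num [Nat.factorial]] at hpG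
    rcases hpp.out.dvd_mul.1 hpG with h' | h'
    · rcases hpp.out.dvd_mul.1 h' with h' | h'
      · rcases hpp.out.dvd_mul.1 h' with h' | h' <;> exact hp2 ((Nat.prime_dvd_prime_iff_eq hpp.out Nat.prime_two).1 h')
      · exact hp2 ((Nat.prime_dvd_prime_iff_eq hpp.out Nat.prime_two).1 h')
    · exact h ((Nat.prime_dvd_prime_iff_eq hpp.out Nat.prime_three).1 h')
  · have h60 : Nat.card (alternatingGroup (Fin 5)) = 60 := by
      rw [nat_card_alternatingGroup, Nat.card_fin]; decide
    rw [Nat.card_congr e.toEquiv, h60] at hpG hkdvd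
    rw [show (60 : ℕ) = 2 * 2 * 3 * 5 by norm_num] at hpG
    have hp3 : p = 3 := by
      rcases hpp.out.dvd_mul.1 hpG with h' | h'
      · rcases hpp.out.dvd_mul.1 h' with h' | h'
        · rcases hpp.out.dvd_mul.1 h' with h' | h' <;>
            exact absurd ((Nat.prime_dvd_prime_iff_eq hpp.out Nat.prime_two).1 h') hp2
        · exact (Nat.prime_dvd_prime_iff_eq hpp.out Nat.prime_three).1 h'
      · exact absurd ((Nat.prime_dvd_prime_iff_eq hpp.out (by norm_num : Nat.Prime 5)).1 h') h
    subst hp3
    rw [hj] at hkdvd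
    rcases Nat.lt_or_ge (j : ℕ) 2 with hj2 | hj2
    · have hj1 : (j : ℕ) = 1 := by have := j.pos; omega
      exact h3 (by rw [hj, hj1, pow_one])
    · have := (pow_dvd_pow 3 hj2).trans hkdvd
      norm_num at this
  · obtain ⟨γ, rfl⟩ := ProjGenLinGroup.mk_surjective g
    have key : ∀ x ∈ H, Matrix.trace (x : M2) ≠ 0 → Matrix.trace (x : M2) = 2 →
        ∃ B : Matrix (Fin 2) (Fin 2) K, (γ : M2) * (x : M2) * ((γ⁻¹ : GL (Fin 2) F) : M2) = B.map f := by
      intro x hx ht0 ht
      obtain ⟨Q, hQ⟩ := hg _ (hmem x hx)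
      obtain ⟨B, rfl⟩ := ProjGenLinGroup.mk_surjective Q
      have hQ' : ProjGenLinGroup.mk (GeneralLinearGroup.map f B) =
          ProjGenLinGroup.mk (γ * Matrix.SpecialLinearGroup.toGL x * γ⁻¹) := by
        rw [← ProjGenLinGroup.map_mk, hQ, map_mul, map_mul, map_inv]; rfl
      obtain ⟨u, hu⟩ := ProjGenLinGroup.mk_eq_mk_iff.1 hQ'
      have huM : (γ : M2) * (x : M2) * ((γ⁻¹ : GL (Fin 2) F) : M2) = (u : F) • (B : Matrix (Fin 2) (Fin 2) K).map f := by
        have h0 : ((GeneralLinearGroup.map f B : GL (Fin 2) F) : M2) *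
            ((GeneralLinearGroup.scalar (Fin 2) u : GL (Fin 2) F) : M2) =
            (γ : M2) * (x : M2) * ((γ⁻¹ : GL (Fin 2) F) : M2) := congrArg (fun g : GL (Fin 2) F => (g : M2)) hu
        rw [← h0]
        ext a b
        fin_cases a <;> fin_cases b <;>
          simp [Matrix.mul_apply, Fin.sum_univ_two, GeneralLinearGroup.coe_scalar, mul_comm]
      have htr := congrArg Matrix.trace huM
      rw [Matrix.trace_mul_cycle, ← Units.val_mul, inv_mul_cancel, Units.val_one, one_mul, ht, Matrix.trace_smul,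
        (show Matrix.trace ((B : Matrix (Fin 2) (Fin 2) K).map f) = f (Matrix.trace (B : Matrix (Fin 2) (Fin 2) K))
          by simp [Matrix.trace_fin_two]), smul_eq_mul] at htr
      refine ⟨(2 / Matrix.trace (B : Matrix (Fin 2) (Fin 2) K)) • (B : Matrix (Fin 2) (Fin 2) K), ?_⟩
      rw [huM]
      have hne : f (Matrix.trace (B : Matrix (Fin 2) (Fin 2) K)) ≠ 0 := fun h => h2F (by rw [htr, h, mul_zero])
      have hu' : (u : F) = f (2 / Matrix.trace (B : Matrix (Fin 2) (Fin 2) K)) := by
        rw [map_div₀, map_ofNat, eq_div_iff hne, ← htr]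
      ext a b
      simp [hu']
    set L : Subfield F := f.fieldRange with hL
    have hcα : ∀ c : k, algebraMap k F c * α ∈ L := by
      intro c
      obtain ⟨B1, hB1⟩ := key _ (upp_mem c) (by simp [upp_val, Matrix.trace_fin_two, one_add_one_eq_two, h2F])
        (by simp [upp_val, Matrix.trace_fin_two, one_add_one_eq_two])
      obtain ⟨B2, hB2⟩ := key _ (by simpa using low_mem (k := k) (α := α) 1)
        (by simp [low_val, Matrix.trace_fin_two, one_add_one_eq_two, h2F])
        (by simp [low_val, Matrix.trace_fin_two, one_add_one_eq_two] : Matrix.trace ((low α : SL) : M2) = 2)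
      refine ⟨Matrix.trace (B1 * B2) - 2, ?_⟩
      rw [map_sub, map_ofNat, show f (Matrix.trace (B1 * B2)) = Matrix.trace ((B1.map f) * (B2.map f)) by
        simp [Matrix.trace_fin_two, Matrix.mul_apply, Fin.sum_univ_two], ← hB1, ← hB2]
      have e : (γ : M2) * ((upp (algebraMap k F c) : SL) : M2) * ((γ⁻¹ : GL (Fin 2) F) : M2) *
          ((γ : M2) * ((low α : SL) : M2) * ((γ⁻¹ : GL (Fin 2) F) : M2)) =
          (γ : M2) * (((upp (algebraMap k F c) : SL) : M2) * ((low α : SL) : M2)) * ((γ⁻¹ : GL (Fin 2) F) : M2) := by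
        simp only [mul_assoc, Units.inv_mul_cancel_left]
      rw [e, Matrix.trace_mul_cycle, ← Units.val_mul, inv_mul_cancel, Units.val_one, one_mul, upp_val, low_val]
      rw [Matrix.mul_fin_two, Matrix.trace_fin_two_of]
      ring
    have hαL : α ∈ L := by simpa using hcα 1
    let E : IntermediateField k F := L.toIntermediateField fun c => by
      simpa [hα] using L.div_mem (hcα c) hαL
    have hE : (⊤ : IntermediateField k F) ≤ E := hgen ▸ IntermediateField.adjoin_le_iff.2 (by
      rintro _ rfl; exact hαL)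
    have hsurj : Function.Surjective f := fun x => RingHom.mem_fieldRange.1 (hE (IntermediateField.mem_top (x := x)))
    have : Fintype.card K = Nat.card F := by
      rw [← Nat.card_eq_fintype_card]; exact Nat.card_eq_of_bijective f ⟨f.injective, hsurj⟩
    rw [this] at hcard
    have h1 : 1 < Nat.card F := Finite.one_lt_card
    have : Nat.card F ^ 1 < Nat.card F ^ m := Nat.pow_lt_pow_right h1 (by omega)
    rw [pow_one] at this
    omega

end Cfsg.Agent.DicksonAlpha
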