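import Mathlib
import Cfsg.Prelude.Def_RootSubgroups

/-!
Families of subgroups of a linear group which pairwise generate unipotent groups.
-/

set_option autoImplicit false

namespace Cfsg.Agent.UniFamily

variable {k : Type*} [Field k] {M : Type*} [AddCommGroup M] [Module k M]

local notation "GLM" => LinearMap.GeneralLinearGroup k M
local notation "EndM" => M →ₗ[k] M

/-- The deviation `g - 1`. -/
def dev (g : LinearMap.GeneralLinearGroup k M) : M →ₗ[k] M := (g : M →ₗ[k] M) - 1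

theorem coe_eq (g : GLM) : (g : EndM) = dev g + 1 := (sub_add_cancel _ _).symm

theorem dev_one : dev (1 : GLM) = 0 := sub_self _

theorem dev_mul (g h : GLM) : dev (g * h) = dev g * dev h + dev g + dev h := by
  simp only [dev, Units.val_mul, sub_mul, mul_sub, one_mul, mul_one]; abel

theorem dev_eq_zero {g : GLM} (h : dev g = 0) : g = 1 := Units.ext (sub_eq_zero.1 h)

/-- The span of the products of at least `n` deviations from `H`. -/
def pwr (H : Subgroup (LinearMap.GeneralLinearGroup k M)) (n : ℕ) : Submodule k (M →ₗ[k] M) :=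
  Submodule.span k {x | ∃ l : List (LinearMap.GeneralLinearGroup k M), (∀ g ∈ l, g ∈ H) ∧ n ≤ l.length ∧
    (l.map dev).prod = x}

theorem pwr_antitone (H : Subgroup GLM) {m n : ℕ} (h : m ≤ n) : pwr H n ≤ pwr H m :=
  Submodule.span_mono fun _ ⟨l, hl, hn, hx⟩ => ⟨l, hl, h.trans hn, hx⟩

theorem pwr_mono {H K : Subgroup GLM} (h : H ≤ K) (n : ℕ) : pwr H n ≤ pwr K n :=
  Submodule.span_mono fun _ ⟨l, hl, hn, hx⟩ => ⟨l, fun g hg => h (hl g hg), hn, hx⟩

theorem one_mem_pwr (H : Subgroup GLM) : (1 : EndM) ∈ pwr H 0 :=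
  Submodule.subset_span ⟨[], by simp, le_rfl, by simp⟩

theorem dev_mem_pwr {H : Subgroup GLM} {g : GLM} (hg : g ∈ H) : dev g ∈ pwr H 1 :=
  Submodule.subset_span ⟨[g], by simpa using hg, by simp, by simp⟩

theorem coe_mem_pwr {H : Subgroup GLM} {g : GLM} (hg : g ∈ H) : (g : EndM) ∈ pwr H 0 := by
  rw [coe_eq]; exact add_mem (pwr_antitone H (Nat.zero_le 1) (dev_mem_pwr hg)) (one_mem_pwr H)

theorem pwr_mul (H : Subgroup GLM) (a b : ℕ) : pwr H a * pwr H b ≤ pwr H (a + b) := by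
  rw [pwr, pwr, Submodule.span_mul_span]
  refine Submodule.span_mono ?_
  rintro _ ⟨_, ⟨l, hl, hn, rfl⟩, _, ⟨l', hl', hn', rfl⟩, rfl⟩
  exact ⟨l ++ l', fun g hg => (List.mem_append.1 hg).elim (hl g) (hl' g), by simp; omega, by simp⟩

theorem prod_dev (l : List (LinearMap.GeneralLinearGroup k M)) :
    (l.map fun g => (g : M →ₗ[k] M) - 1).prod = (l.map dev).prod := by
  congr 1
  simp [dev, List.map_eq_flatMap, List.flatMap_assoc, Function.comp_def]

theorem exists_pwr_eq_bot {H : Subgroup GLM} (h : Cfsg.IsUnipotentOn H) : ∃ n, 0 < n ∧ pwr H n = ⊥ := by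
  obtain ⟨n, hn⟩ := h
  refine ⟨n + 1, n.succ_pos, ?_⟩
  rw [pwr, Submodule.span_eq_bot]
  rintro _ ⟨l, hl, hlen, rfl⟩
  rw [← List.take_append_drop n l, List.map_append, List.prod_append]
  have : ((l.take n).map dev).prod = 0 :=
    (prod_dev _).symm.trans (hn (l.take n) (fun g hg => hl g (List.mem_of_mem_take hg)) (by simp; omega))
  rw [this, zero_mul]

theorem unipotent_of_algebra {N : Submodule k EndM} {m : ℕ} (hN : N ^ m = ⊥) {H : Subgroup GLM}
    (h : ∀ g ∈ H, dev g ∈ N) : Cfsg.IsUnipotentOn H := by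
  refine ⟨m, fun l hl hlen => ?_⟩
  have hp : ∀ l : List GLM, (∀ g ∈ l, g ∈ H) → (l.map dev).prod ∈ N ^ l.length := by
    intro l
    induction l with
    | nil => intro _; simp [Submodule.one_eq_span, Submodule.mem_span_singleton_self]
    | cons g l ih =>
      intro hl
      rw [List.map_cons, List.prod_cons, List.length_cons, pow_succ']
      exact Submodule.mul_mem_mul (h g (hl g (by simp))) (ih fun x hx => hl x (by simp [hx]))
  have := hp l hl
  rw [hlen, hN, Submodule.mem_bot] at this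
  exact (prod_dev l).trans this

/-- The elements of a nilpotent algebra's group generate deviations in it. -/
theorem dev_mem_iSup {N : Submodule k EndM} (hmul : N * N ≤ N) {W : Set (Subgroup GLM)}
    (h : ∀ A ∈ W, ∀ g ∈ A, dev g ∈ N) : ∀ g ∈ ⨆ A ∈ W, A, dev g ∈ N := by
  let S : Subgroup GLM :=
    { carrier := {g | dev g ∈ N ∧ dev g⁻¹ ∈ N}
      one_mem' := by simp [dev_one]
      mul_mem' := fun {a b} ha hb => by
        refine ⟨?_, ?_⟩
        · rw [dev_mul]; exact add_mem (add_mem (hmul (Submodule.mul_mem_mul ha.1 hb.1)) ha.1) hb.1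
        · rw [mul_inv_rev, dev_mul]; exact add_mem (add_mem (hmul (Submodule.mul_mem_mul hb.2 ha.2)) hb.2) ha.2
      inv_mem' := fun {a} ha => ⟨ha.2, by rw [inv_inv]; exact ha.1⟩ }
  intro g hg
  have hle : (⨆ A ∈ W, A) ≤ S := iSup₂_le fun A hA x hx => ⟨h A hA x hx, h A hA _ (inv_mem hx)⟩
  exact (hle hg).1

theorem pwr_one_mul (H : Subgroup GLM) : pwr H 1 * pwr H 1 ≤ pwr H 1 :=
  (pwr_mul H 1 1).trans (pwr_antitone H one_le_two)

theorem pwr_one_pow (H : Subgroup GLM) : ∀ n, 0 < n → pwr H 1 ^ n ≤ pwr H n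
  | 1, _ => by rw [pow_one]
  | n + 2, _ => by
    rw [pow_succ]
    exact (mul_le_mul_left (pwr_one_pow H (n + 1) n.succ_pos) _).trans (pwr_mul H _ 1)

theorem unipotent_of_dev_mem {U H : Subgroup GLM} (hU : Cfsg.IsUnipotentOn U)
    (h : ∀ g ∈ H, dev g ∈ pwr U 1) : Cfsg.IsUnipotentOn H := by
  obtain ⟨n, hn, hb⟩ := exists_pwr_eq_bot hU
  exact unipotent_of_algebra (le_bot_iff.1 ((pwr_one_pow U n hn).trans hb.le)) h

/-- A unipotent group normalised by a unipotent group generates with it a unipotent group. -/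
theorem unipotent_sup {H₁ H₂ : Subgroup GLM} (h1 : Cfsg.IsUnipotentOn H₁) (h2 : Cfsg.IsUnipotentOn H₂)
    (hn : H₁ ≤ Subgroup.normalizer (H₂ : Set GLM)) : Cfsg.IsUnipotentOn (H₁ ⊔ H₂) := by
  obtain ⟨n1, hn1, hb1⟩ := exists_pwr_eq_bot h1
  obtain ⟨n2, hn2, hb2⟩ := exists_pwr_eq_bot h2
  have hspan : pwr H₁ 0 ≤ Submodule.span k ((fun g : GLM => (g : EndM)) '' H₁) := by
    set S := Submodule.span k ((fun g : GLM => (g : EndM)) '' (H₁ : Set GLM)) with hS
    have hSS : S * S ≤ S := by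
      rw [hS, Submodule.span_mul_span]
      refine Submodule.span_mono ?_
      rintro _ ⟨_, ⟨g, hg, rfl⟩, _, ⟨g', hg', rfl⟩, rfl⟩
      exact ⟨g * g', mul_mem hg hg', rfl⟩
    have h1S : (1 : EndM) ∈ S := Submodule.subset_span ⟨1, one_mem _, rfl⟩
    refine Submodule.span_le.2 ?_
    rintro _ ⟨l, hl, -, rfl⟩
    induction l with
    | nil => simpa using h1S
    | cons g l ih =>
      rw [List.map_cons, List.prod_cons]
      exact hSS (Submodule.mul_mem_mul (sub_mem (Submodule.subset_span ⟨g, hl g (by simp), rfl⟩) h1S)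
        (ih fun x hx => hl x (by simp [hx])))
  have hswap : ∀ j, pwr H₁ 0 * pwr H₂ j ≤ pwr H₂ j * pwr H₁ 0 := by
    intro j
    refine (mul_le_mul_left hspan _).trans ?_
    rw [pwr, Submodule.span_mul_span, Submodule.span_le]
    rintro _ ⟨_, ⟨h, hh, rfl⟩, _, ⟨l, hl, hlen, rfl⟩, rfl⟩
    have e : ∀ l : List GLM, (h : EndM) * (l.map dev).prod =
        ((l.map fun g => h * g * h⁻¹).map dev).prod * (h : EndM) := by
      intro l
      induction l with
      | nil => simp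
      | cons g l ih =>
        simp only [List.map_cons, List.prod_cons]
        have hd : (h : EndM) * dev g = dev (h * g * h⁻¹) * (h : EndM) := by
          simp only [dev, Units.val_mul, sub_mul, mul_sub, one_mul, mul_one, mul_assoc, Units.inv_mul]
        rw [← mul_assoc, hd, mul_assoc, ih, ← mul_assoc]
    show (h : EndM) * (l.map dev).prod ∈ _
    rw [e]
    refine Submodule.mul_mem_mul (Submodule.subset_span ⟨_, ?_, by simpa using hlen, rfl⟩) (coe_mem_pwr hh)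
    intro x hx
    obtain ⟨g, hg, rfl⟩ := List.mem_map.1 hx
    exact (Subgroup.mem_normalizer_iff.1 (hn hh) g).1 (hl g hg)
  set X := pwr H₂ 1 * pwr H₁ 0 with hX
  set N := X ⊔ pwr H₁ 1 with hN
  have hXr : ∀ a, X * pwr H₁ a ≤ X := fun a => by
    rw [hX, mul_assoc]
    exact mul_le_mul_right ((pwr_mul H₁ 0 a).trans (pwr_antitone H₁ (Nat.zero_le _))) _
  have hXl : ∀ a, pwr H₁ a * X ≤ X := fun a => by
    refine (mul_le_mul_left (pwr_antitone H₁ (Nat.zero_le a)) _).trans ?_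
    rw [hX, ← mul_assoc]
    refine (mul_le_mul_left (hswap 1) _).trans ?_
    rw [mul_assoc]
    exact mul_le_mul_right (pwr_mul H₁ 0 0) _
  have hXpow : ∀ j, 0 < j → X ^ j ≤ pwr H₂ j * pwr H₁ 0 := by
    intro j hj
    induction j with
    | zero => omega
    | succ j ih =>
      rcases Nat.eq_zero_or_pos j with rfl | hj'
      · rw [pow_one]
      rw [pow_succ]
      refine (mul_le_mul_left (ih hj') _).trans ?_
      calc pwr H₂ j * pwr H₁ 0 * (pwr H₂ 1 * pwr H₁ 0)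
          = pwr H₂ j * (pwr H₁ 0 * pwr H₂ 1) * pwr H₁ 0 := by simp only [mul_assoc]
        _ ≤ pwr H₂ j * (pwr H₂ 1 * pwr H₁ 0) * pwr H₁ 0 := mul_le_mul_left (mul_le_mul_right (hswap 1) _) _
        _ = (pwr H₂ j * pwr H₂ 1) * (pwr H₁ 0 * pwr H₁ 0) := by simp only [mul_assoc]
        _ ≤ _ := mul_le_mul' (pwr_mul H₂ j 1) (pwr_mul H₁ 0 0)
  have hXX : X * X ≤ X := by
    have := (hXpow 2 two_pos).trans (mul_le_mul_left (pwr_antitone H₂ one_le_two) _)
    rwa [pow_two] at this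
  have hNN : ∀ a, (X ⊔ pwr H₁ a) * N ≤ X ⊔ pwr H₁ (a + 1) := fun a => by
    rw [hN, Submodule.mul_sup, Submodule.sup_mul, Submodule.sup_mul]
    exact sup_le (sup_le (hXX.trans le_sup_left) ((hXl a).trans le_sup_left))
      (sup_le ((hXr 1).trans le_sup_left) ((pwr_mul H₁ a 1).trans le_sup_right))
  have hNpow : ∀ a, 0 < a → N ^ a ≤ X ⊔ pwr H₁ a := by
    intro a ha
    induction a with
    | zero => omega
    | succ a ih =>
      rcases Nat.eq_zero_or_pos a with rfl | ha'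
      · rw [pow_one]
      rw [pow_succ]
      exact (mul_le_mul_left (ih ha') _).trans (hNN a)
  have hNmul : N * N ≤ N := (hNN 1).trans (sup_le_sup_left (pwr_antitone H₁ one_le_two) _)
  have hz : N ^ (n1 * n2) = ⊥ := by
    refine le_bot_iff.1 ?_
    rw [pow_mul]
    have hle : N ^ n1 ≤ X := by
      have := hNpow n1 hn1
      rwa [hb1, sup_bot_eq] at this
    refine (pow_le_pow_left' hle n2).trans ((hXpow n2 hn2).trans ?_)
    rw [hb2, Submodule.bot_mul]
  refine unipotent_of_algebra hz fun g hg => dev_mem_iSup hNmul (W := {H₁, H₂}) ?_ g ?_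
  · rintro A (rfl | rfl) x hx
    · exact Submodule.mem_sup_right (dev_mem_pwr hx)
    · refine Submodule.mem_sup_left ?_
      have := Submodule.mul_mem_mul (dev_mem_pwr hx) (one_mem_pwr H₁)
      rwa [mul_one] at this
  · rw [iSup_pair]; exact hg

theorem mono {H K : Subgroup GLM} (h : H ≤ K) (hK : Cfsg.IsUnipotentOn K) : Cfsg.IsUnipotentOn H :=
  hK.imp fun _ hn l hl => hn l fun g hg => h (hl g hg)

/-- A proper subgroup of a unipotent group is normalised by an element outside it. -/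
theorem exists_normalizing {U U₀ : Subgroup GLM} (hU : Cfsg.IsUnipotentOn U) (h0 : U₀ ≤ U) (hne : ¬ U ≤ U₀) :
    ∃ g ∈ U, g ∉ U₀ ∧ ∀ h ∈ U₀, g * h * g⁻¹ ∈ U₀ ∧ g⁻¹ * h * g ∈ U₀ := by
  obtain ⟨n, hn, hb⟩ := exists_pwr_eq_bot hU
  obtain ⟨u, huU, hu0⟩ := SetLike.not_le_iff_exists.1 hne
  set J := {i | 1 ≤ i ∧ ∃ g ∈ U, g ∉ U₀ ∧ dev g ∈ pwr U i} with hJ
  have hJn : ∀ i ∈ J, i < n := by
    rintro i ⟨-, g, -, hg0, hgi⟩
    by_contra hle
    have := pwr_antitone U (not_lt.1 hle) hgi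
    rw [hb, Submodule.mem_bot] at this
    exact hg0 (dev_eq_zero this ▸ one_mem U₀)
  obtain ⟨i, ⟨hi1, g, hgU, hg0, hgi⟩, hmax⟩ := Set.exists_max_image J id ((Set.finite_lt_nat n).subset hJn)
    ⟨1, le_rfl, u, huU, hu0, dev_mem_pwr huU⟩
  have key : ∀ a ∈ U, dev a ∈ pwr U i → ∀ h ∈ U₀, a * h * a⁻¹ ∈ U₀ := by
    intro a ha hai h hh
    have hcm : dev (a * h * a⁻¹ * h⁻¹) ∈ pwr U (i + 1) := by
      have e : dev (a * h * a⁻¹ * h⁻¹) = (dev a * dev h - dev h * dev a) * ((a⁻¹ * h⁻¹ : GLM) : EndM) := by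
        have e1 : dev a * dev h - dev h * dev a = ((a * h : GLM) : EndM) - ((h * a : GLM) : EndM) := by
          simp only [dev, Units.val_mul, sub_mul, mul_sub, one_mul, mul_one]; abel
        rw [e1, sub_mul, ← Units.val_mul, ← Units.val_mul, dev]
        simp [mul_assoc]
      rw [e]
      have h' := Submodule.mul_mem_mul (sub_mem (pwr_mul U i 1 (Submodule.mul_mem_mul hai (dev_mem_pwr (h0 hh))))
        ((pwr_mul U 1 i).trans (pwr_antitone U (by omega)) (Submodule.mul_mem_mul (dev_mem_pwr (h0 hh)) hai)))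
        (coe_mem_pwr (H := U) (mul_mem (inv_mem ha) (inv_mem (h0 hh))))
      exact pwr_mul U (i + 1) 0 h'
    by_contra hn'
    have hcU : a * h * a⁻¹ * h⁻¹ ∈ U := mul_mem (mul_mem (mul_mem ha (h0 hh)) (inv_mem ha)) (inv_mem (h0 hh))
    have := hmax (i + 1) ⟨by omega, _, hcU, fun hc => hn' (by simpa using mul_mem hc hh), hcm⟩
    simp only [id] at this
    omega
  refine ⟨g, hgU, hg0, fun h hh => ⟨key g hgU hgi h hh, ?_⟩⟩
  have hgi' : dev g⁻¹ ∈ pwr U i := by
    have e : dev g⁻¹ = -(((g⁻¹ : GLM) : EndM) * dev g) := by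
      simp [dev, mul_sub]
    rw [e]
    exact neg_mem (by simpa using pwr_mul U 0 i (Submodule.mul_mem_mul (coe_mem_pwr (inv_mem hgU)) hgi))
  simpa using key g⁻¹ (inv_mem hgU) hgi' h hh

variable [FiniteDimensional k M]

open Classical in
/-- A family of pairwise unipotent subgroups, closed under conjugation by its members, is unipotent. -/
theorem unipotent_iSup {W : Set (Subgroup GLM)} (hWW : ∀ A ∈ W, ∀ B ∈ W, Cfsg.IsUnipotentOn (A ⊔ B))
    (hconj : ∀ A ∈ W, ∀ B ∈ W, ∀ g ∈ A, Cfsg.conjBy B g ∈ W) : Cfsg.IsUnipotentOn (⨆ A ∈ W, A) := by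
  let gen : Set (Subgroup GLM) → Subgroup GLM := fun Δ => ⨆ A ∈ Δ, A
  have gen_mono : ∀ {Δ Δ'}, Δ ⊆ Δ' → gen Δ ≤ gen Δ' := fun h => biSup_mono h
  have le_gen : ∀ {Δ A}, A ∈ Δ → A ≤ gen Δ := fun h => le_biSup (fun A => A) h
  let cl : Submodule k EndM → Set (Subgroup GLM) := fun N => {A | A ∈ W ∧ ∀ g ∈ A, dev g ∈ N}
  have cl_unip : ∀ U, Cfsg.IsUnipotentOn U → Cfsg.IsUnipotentOn (gen (cl (pwr U 1))) := fun U hU =>
    unipotent_of_dev_mem hU (dev_mem_iSup (pwr_one_mul U) fun A hA => hA.2)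
  let good : Set (Subgroup GLM) → Prop := fun Δ => Δ ⊆ W ∧ Cfsg.IsUnipotentOn (gen Δ)
  let top : Set (Subgroup GLM) → Prop := fun Δ => good Δ ∧ ∀ Δ', good Δ' → Δ ⊆ Δ' → Δ' = Δ
  have grow : ∀ Δ, good Δ → ∃ Δ', top Δ' ∧ Δ ⊆ Δ' := by
    intro Δ hΔ
    let P : ℕ → Prop := fun d => ∃ Δ', good Δ' ∧ Δ ⊆ Δ' ∧ Module.finrank k ↥(pwr (gen Δ') 1) = d
    have hP : P (Module.finrank k ↥(pwr (gen Δ) 1)) := ⟨Δ, hΔ, subset_rfl, rfl⟩
    have hbd : ∀ d, P d → d ≤ Module.finrank k EndM := fun d ⟨_, _, _, h⟩ => h ▸ Submodule.finrank_le _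
    obtain ⟨Δ', hg', hsub, hd⟩ := Nat.findGreatest_spec (hbd _ hP) hP
    refine ⟨cl (pwr (gen Δ') 1), ⟨⟨fun A hA => hA.1, cl_unip _ hg'.2⟩, fun Δ'' hg'' h'' => ?_⟩,
      fun A hA => ⟨hΔ.1 hA, fun g hg => dev_mem_pwr (le_gen (hsub hA) hg)⟩⟩
    have hsub' : Δ' ⊆ cl (pwr (gen Δ') 1) := fun A hA => ⟨hg'.1 hA, fun g hg => dev_mem_pwr (le_gen hA hg)⟩
    have hsub'' : Δ' ⊆ Δ'' := hsub'.trans h''
    have heq : pwr (gen Δ') 1 = pwr (gen Δ'') 1 := by
      refine Submodule.eq_of_le_of_finrank_le (pwr_mono (gen_mono hsub'') 1) ?_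
      have hP'' : P (Module.finrank k ↥(pwr (gen Δ'') 1)) := ⟨Δ'', hg'', hsub.trans hsub'', rfl⟩
      rw [hd]; exact Nat.le_findGreatest (hbd _ hP'') hP''
    refine Set.Subset.antisymm (fun A hA => ⟨hg''.1 hA, fun g hg => ?_⟩) h''
    rw [heq]; exact dev_mem_pwr (le_gen hA hg)
  have top_cl : ∀ {Δ}, top Δ → cl (pwr (gen Δ) 1) = Δ := fun {Δ} h =>
    h.2 _ ⟨fun A hA => hA.1, cl_unip _ h.1.2⟩ fun A hA => ⟨h.1.1 hA, fun g hg => dev_mem_pwr (le_gen hA hg)⟩
  by_cases huniq : ∀ P Q, top P → top Q → P = Q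
  · rcases W.eq_empty_or_nonempty with rfl | ⟨A₀, hA₀⟩
    · refine ⟨1, fun l hl hlen => ?_⟩
      obtain ⟨g, rfl⟩ := List.length_eq_one_iff.1 hlen
      have : g = 1 := by simpa using hl g (by simp)
      simp [this]
    have one : ∀ A ∈ W, good {A} := fun A hA => ⟨by simpa using hA, by simpa [gen] using hWW A hA A hA⟩
    obtain ⟨P, hP, -⟩ := grow _ (one A₀ hA₀)
    have : W ⊆ P := fun A hA => by
      obtain ⟨Q, hQ, hAQ⟩ := grow _ (one A hA)
      rw [huniq P Q hP hQ]; exact hAQ rfl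
    exact mono (gen_mono this) hP.1.2
  exfalso
  push Not at huniq
  obtain ⟨P₁, Q₁, hP₁, hQ₁, hne₁⟩ := huniq
  let R : ℕ → Prop := fun d => ∃ P Q, top P ∧ top Q ∧ P ≠ Q ∧ Module.finrank k ↥(pwr (gen (P ∩ Q)) 1) = d
  have hR : R _ := ⟨P₁, Q₁, hP₁, hQ₁, hne₁, rfl⟩
  have hRb : ∀ d, R d → d ≤ Module.finrank k EndM := by
    rintro d ⟨_, _, -, -, -, h⟩; rw [← h]; exact Submodule.finrank_le _
  obtain ⟨P, Q, hP, hQ, hne, hd⟩ := Nat.findGreatest_spec (hRb _ hR) hR
  set E := P ∩ Q with hE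
  have outside : ∀ P, top P → E ⊆ P → ¬ P ⊆ E → ∃ Y ∈ P, Y ∉ E ∧ Y ≤ Subgroup.normalizer (gen E : Set GLM) := by
    intro P hP hEP hPE
    by_contra hno
    push Not at hno
    set U := gen P with hU
    set U₀ := U ⊓ Subgroup.normalizer (gen E : Set GLM) with hU₀
    obtain ⟨Y, hY, hYE⟩ := Set.not_subset.1 hPE
    obtain ⟨g, hgU, hg0, hgn⟩ := exists_normalizing hP.1.2 (inf_le_left : U₀ ≤ U) fun h =>
      hno Y hY hYE (((le_gen hY).trans h).trans inf_le_right)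
    have hcmem : ∀ a ∈ U, ∀ B ∈ P, Cfsg.conjBy B a ∈ W → Cfsg.conjBy B a ∈ P := by
      intro a ha B hB hBW
      rw [← top_cl hP]
      refine ⟨hBW, ?_⟩
      rintro _ ⟨x, hx, rfl⟩
      exact dev_mem_pwr (mul_mem (mul_mem ha (le_gen hB hx)) (inv_mem ha))
    have hW' : ∀ a ∈ U, ∀ B ∈ P, Cfsg.conjBy B a ∈ W := by
      intro a ha
      let T : Subgroup GLM :=
        { carrier := {a | ∀ B ∈ P, Cfsg.conjBy B a ∈ P ∧ Cfsg.conjBy B a⁻¹ ∈ P}
          one_mem' := fun B hB => by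
            have e : Cfsg.conjBy B 1 = B := by ext x; simp [Cfsg.conjBy]
            exact ⟨e.symm ▸ hB, by rw [inv_one, e]; exact hB⟩
          mul_mem' := fun {x y} hx hy B hB => by
            have e : ∀ u v : GLM, Cfsg.conjBy B (u * v) = Cfsg.conjBy (Cfsg.conjBy B v) u := fun u v => by
              ext z; simp [Cfsg.conjBy, mul_assoc]
            refine ⟨?_, ?_⟩
            · rw [e]; exact (hx _ (hy B hB).1).1
            · rw [mul_inv_rev, e]; exact (hy _ (hx B hB).2).2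
          inv_mem' := fun {x} hx B hB => by simpa [and_comm] using hx B hB }
      have hle : U ≤ T := iSup₂_le fun A hA x hx B hB =>
        ⟨hcmem x (le_gen hA hx) B hB (hconj A (hP.1.1 hA) B (hP.1.1 hB) x hx),
          hcmem x⁻¹ (inv_mem (le_gen hA hx)) B hB (hconj A (hP.1.1 hA) B (hP.1.1 hB) _ (inv_mem hx))⟩
      exact fun B hB => hP.1.1 (hle ha B hB).1
    refine hg0 ⟨hgU, ?_⟩
    have move : ∀ a ∈ U, (∀ h ∈ U₀, a * h * a⁻¹ ∈ U₀) → ∀ x ∈ gen E, a * x * a⁻¹ ∈ gen E := by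
      intro a ha han x hx
      have hle : gen E ≤ (gen E).comap (MulAut.conj a).toMonoidHom := by
        refine iSup₂_le fun B hB => ?_
        rw [← Subgroup.map_le_iff_le_comap]
        refine le_gen (Δ := E) (by_contra fun hBE => ?_)
        refine hno _ (hcmem a ha B (hEP hB) (hW' a ha B (hEP hB))) hBE ?_
        rintro _ ⟨y, hy, rfl⟩
        exact (han y ⟨le_gen (hEP hB) hy, Subgroup.le_normalizer (le_gen hB hy)⟩).2
      exact hle hx
    refine Subgroup.mem_normalizer_iff.2 fun x => ?_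
    refine ⟨fun hx => move g hgU (fun h hh => (hgn h hh).1) x hx, fun hx => ?_⟩
    have := move g⁻¹ (inv_mem hgU) (fun h hh => by rw [inv_inv]; exact (hgn h hh).2) _ hx
    simpa [mul_assoc] using this
  have nsub : ∀ {P Q}, top P → top Q → P ≠ Q → ¬ P ⊆ Q := fun hP hQ hne h => hne (hP.2 _ hQ.1 h).symm
  obtain ⟨Y, hY, hYE, hYn⟩ := outside P hP Set.inter_subset_left fun h => nsub hP hQ hne fun A hA => (h hA).2
  obtain ⟨Z, hZ, hZE, hZn⟩ := outside Q hQ Set.inter_subset_right fun h => nsub hQ hP hne.symm fun A hA => (h hA).1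
  have hEu : Cfsg.IsUnipotentOn (gen E) := mono (gen_mono Set.inter_subset_left) hP.1.2
  have hYZ := unipotent_sup (hWW Y (hP.1.1 hY) Z (hQ.1.1 hZ)) hEu (sup_le hYn hZn)
  have hnew : good (insert Y (insert Z E)) := by
    refine ⟨?_, mono ?_ hYZ⟩
    · rintro A (rfl | rfl | hA)
      exacts [hP.1.1 hY, hQ.1.1 hZ, hP.1.1 hA.1]
    · refine iSup₂_le ?_
      rintro A (rfl | rfl | hA)
      exacts [le_sup_left.trans le_sup_left, le_sup_right.trans le_sup_left, (le_gen hA).trans le_sup_right]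
  obtain ⟨S, hS, hsub⟩ := grow _ hnew
  have same : ∀ P', top P' → E ⊆ P' → ∀ X ∈ P', X ∉ E → X ∈ S → P' = S := by
    intro P' hP' hEP X hX hXE hXS
    by_contra hne'
    have hEE : E ⊆ P' ∩ S := fun A hA => ⟨hEP hA, hsub (Or.inr (Or.inr hA))⟩
    have hR' : R _ := ⟨P', S, hP', hS, hne', rfl⟩
    have heq : pwr (gen E) 1 = pwr (gen (P' ∩ S)) 1 := by
      refine Submodule.eq_of_le_of_finrank_le (pwr_mono (gen_mono hEE) 1) ?_
      rw [hd]; exact Nat.le_findGreatest (hRb _ hR') hR'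
    have hXN : ∀ g ∈ X, dev g ∈ pwr (gen E) 1 := fun g hg => by
      rw [heq]; exact dev_mem_pwr (le_gen (Δ := P' ∩ S) ⟨hX, hXS⟩ hg)
    refine hXE ⟨?_, ?_⟩
    · rw [← top_cl hP]
      exact ⟨hP'.1.1 hX, fun g hg => pwr_mono (gen_mono (Set.inter_subset_left (s := P) (t := Q))) 1 (hXN g hg)⟩
    · rw [← top_cl hQ]
      exact ⟨hP'.1.1 hX, fun g hg => pwr_mono (gen_mono (Set.inter_subset_right (s := P) (t := Q))) 1 (hXN g hg)⟩
  exact hne ((same P hP Set.inter_subset_left Y hY hYE (hsub (Or.inl rfl))).trans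
    (same Q hQ Set.inter_subset_right Z hZ hZE (hsub (Or.inr (Or.inl rfl)))).symm)

end Cfsg.Agent.UniFamily
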