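import Cfsg.Agent.Lib.RootClass.DicksonAlpha

/-!
The infinite ground field: words in the two root groups reach a non-empty open set of columns.
-/

set_option autoImplicit false

namespace Cfsg.Agent.DicksonAlpha

open Matrix PStable

variable {k F : Type*} [Field k] [Field F] [Algebra k F] (α : F)

local notation "SL" => Matrix.SpecialLinearGroup (Fin 2) F
local notation "M2" => Matrix (Fin 2) (Fin 2) F

/-- Shift of a coefficient sequence. -/
def shift (R : ℕ → k) : ℕ → k
  | 0 => 0
  | i + 1 => R i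

/-- The product of the leading coefficients met by the continued fraction. -/
def phi : ℕ → (ℕ → k) → (ℕ → k) → k
  | 0, Q, _ => Q 0
  | r + 1, Q, R =>
    let a := R r
    let Q' := fun i => a * Q i - Q (r + 1) * shift R i
    let b := Q' r
    a * b * phi r (fun i => b * Q' i) (fun i => a * (b * R i - a * Q' i))

variable (k) in
/-- Evaluation of the first coordinate. -/
def evQ (r : ℕ) (Q : ℕ → k) : F := ∑ i ∈ Finset.range (r + 1), algebraMap k F (Q i) * α ^ i

variable (k) in
/-- Evaluation of the second coordinate. -/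
def evP (r : ℕ) (R : ℕ → k) : F := α * ∑ i ∈ Finset.range r, algebraMap k F (R i) * α ^ i

theorem word (r : ℕ) : ∀ Q R : ℕ → k, phi r Q R ≠ 0 → ∃ h ∈ grp (k := k) α, ∃ s : k, s ≠ 0 ∧
    (h : M2) 0 0 = algebraMap k F s * evQ k α r Q ∧ (h : M2) 1 0 = algebraMap k F s * evP k α r R := by
  induction r with
  | zero =>
    intro Q R hne
    change Q 0 ≠ 0 at hne
    refine ⟨1, one_mem _, (Q 0)⁻¹, inv_ne_zero hne, ?_, ?_⟩
    · simp [evQ]
      exact (inv_mul_cancel₀ ((map_ne_zero (algebraMap k F)).2 hne)).symm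
    · simp [evP]
  | succ r ih =>
    intro Q R hne
    simp only [phi] at hne
    set a := R r with ha
    set q := Q (r + 1) with hq
    set Q' : ℕ → k := fun i => a * Q i - q * shift R i with hQ'
    change a * Q' r * phi r (fun i => Q' r * Q' i) (fun i => a * (Q' r * R i - a * Q' i)) ≠ 0 at hne
    set b := Q' r with hb
    obtain ⟨⟨ha0, hb0⟩, hrec⟩ : (a ≠ 0 ∧ b ≠ 0) ∧ _ := by
      simp only [mul_ne_zero_iff] at hne; exact hne
    obtain ⟨h', hh', s, hs, h00, h10⟩ := ih _ _ hrec
    set A := algebraMap k F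
    have hsum : ∑ i ∈ Finset.range (r + 1), A (Q' i) * α ^ i =
        A a * evQ k α (r + 1) Q - A q * evP k α (r + 1) R := by
      have e1 : ∑ i ∈ Finset.range (r + 1 + 1), A (Q' i) * α ^ i =
          ∑ i ∈ Finset.range (r + 1), A (Q' i) * α ^ i := by
        rw [Finset.sum_range_succ]
        have : Q' (r + 1) = 0 := by simp only [hQ', shift, ← hq, ← ha]; ring
        rw [this, map_zero, zero_mul, add_zero]
      rw [← e1]
      have e2 : ∑ i ∈ Finset.range (r + 1 + 1), A (shift R i) * α ^ i = evP k α (r + 1) R := by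
        rw [Finset.sum_range_succ', evP, Finset.mul_sum]
        simp only [shift, map_zero, zero_mul, add_zero]
        exact Finset.sum_congr rfl fun i _ => by rw [pow_succ]; ring
      rw [← e2, evQ, Finset.mul_sum, Finset.mul_sum, ← Finset.sum_sub_distrib]
      exact Finset.sum_congr rfl fun i _ => by simp only [hQ', map_sub, map_mul]; ring
    have hv1 : evQ k α r (fun i => b * Q' i) = A b * (A a * evQ k α (r + 1) Q - A q * evP k α (r + 1) R) := by
      rw [← hsum, evQ, Finset.mul_sum]
      exact Finset.sum_congr rfl fun i _ => by rw [map_mul]; ring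
    have hv2 : evP k α r (fun i => a * (b * R i - a * Q' i)) =
        A a * (A b * evP k α (r + 1) R - A a * (α * (A a * evQ k α (r + 1) Q - A q * evP k α (r + 1) R))) := by
      have e : ∑ i ∈ Finset.range r, A (a * (b * R i - a * Q' i)) * α ^ i =
          ∑ i ∈ Finset.range (r + 1), A (a * (b * R i - a * Q' i)) * α ^ i := by
        rw [Finset.sum_range_succ]
        have : a * (b * R r - a * Q' r) = 0 := by rw [← ha, ← hb]; ring
        rw [this, map_zero, zero_mul, add_zero]
      rw [← hsum, evP, evP, e, Finset.mul_sum, Finset.mul_sum, Finset.mul_sum]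
      simp only [Finset.mul_sum, ← Finset.sum_sub_distrib]
      exact Finset.sum_congr rfl fun i _ => by simp only [map_sub, map_mul]; ring
    refine ⟨upp (A (q / a)) * (low (A (a ^ 2 / b) * α) * h'),
      mul_mem (upp_mem _) (mul_mem (low_mem _) hh'), s * a * b, by simp [hs, ha0, hb0], ?_, ?_⟩
    all_goals
      have ha' : A a ≠ 0 := by simpa using ha0
      have hb' : A b ≠ 0 := by simpa using hb0
      simp only [Matrix.SpecialLinearGroup.coe_mul, upp_val, low_val]
      simp only [Matrix.mul_apply, Fin.sum_univ_two, Matrix.cons_val', Matrix.cons_val_zero, Matrix.cons_val_one,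
        Matrix.empty_val', Matrix.cons_val_fin_one, Matrix.of_apply, h00, h10, hv1, hv2, map_div₀, map_pow, map_mul]
      field_simp
      ring

theorem exists_good (r : ℕ) : ∀ e : k, e ≠ 0 → ∃ Q R : ℕ → k, phi r Q R ≠ 0 ∧ Q r = e ∧
    (∀ i, r < i → Q i = 0) ∧ ∀ i, r ≤ i → R i = 0 := by
  induction r with
  | zero => exact fun e he => ⟨fun i => if i = 0 then e else 0, fun _ => 0, by simpa [phi] using he, by simp,
      fun i hi => if_neg (by omega), fun _ _ => rfl⟩
  | succ r ih =>
    intro e he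
    obtain ⟨Qn, Rn, hne, hQr, hQ0, hR0⟩ := ih 1 one_ne_zero
    set R : ℕ → k := fun i => Rn i + Qn i with hR
    refine ⟨fun i => Qn i + e * shift R i, R, ?_, ?_, fun i hi => ?_, fun i hi => ?_⟩
    · have hRr : R r = 1 := by simp [hR, hR0 r le_rfl, hQr]
      have hQt : Qn (r + 1) + e * shift R (r + 1) = e := by simp [shift, hQ0 (r + 1) (by omega), hRr]
      have hQ' : ∀ i, R r * (Qn i + e * shift R i) - (Qn (r + 1) + e * shift R (r + 1)) * shift R i = Qn i :=
        fun i => by rw [hRr, hQt]; ring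
      simp only [phi]
      simp only [hQ']
      simp only [hRr, hQr, one_mul]
      simpa [hR] using hne
    · have hRr : R r = 1 := by simp [hR, hR0 r le_rfl, hQr]
      simp [shift, hQ0 (r + 1) (by omega), hRr]
    · obtain ⟨j, rfl⟩ : ∃ j, i = j + 1 := ⟨i - 1, by omega⟩
      simp [shift, hR, hQ0 (j + 1) (by omega), hR0 j (by omega), hQ0 j (by omega)]
    · simp [hR, hR0 i (by omega), hQ0 i (by omega)]

/-- Polynomial functions. -/
def IsPoly {ι : Type*} (f : (ι → k) → k) : Prop := ∃ p : MvPolynomial ι k, ∀ x, MvPolynomial.eval x p = f x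

theorem isPoly_sub {ι : Type*} {f g : (ι → k) → k} (hf : IsPoly f) (hg : IsPoly g) :
    IsPoly fun x => f x - g x := by
  obtain ⟨p, hp⟩ := hf; obtain ⟨q, hq⟩ := hg; exact ⟨p - q, fun x => by simp [hp, hq]⟩

theorem isPoly_mul {ι : Type*} {f g : (ι → k) → k} (hf : IsPoly f) (hg : IsPoly g) :
    IsPoly fun x => f x * g x := by
  obtain ⟨p, hp⟩ := hf; obtain ⟨q, hq⟩ := hg; exact ⟨p * q, fun x => by simp [hp, hq]⟩

theorem isPoly_shift {ι : Type*} {R : (ι → k) → ℕ → k} (hR : ∀ i, IsPoly fun x => R x i) :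
    ∀ i, IsPoly fun x => shift (R x) i
  | 0 => ⟨0, fun x => by simp [shift]⟩
  | i + 1 => by simpa [shift] using hR i

theorem isPoly_phi {ι : Type*} (r : ℕ) : ∀ {Q R : (ι → k) → ℕ → k}, (∀ i, IsPoly fun x => Q x i) →
    (∀ i, IsPoly fun x => R x i) → IsPoly fun x => phi r (Q x) (R x) := by
  induction r with
  | zero => intro Q R hQ hR; simpa [phi] using hQ 0
  | succ r ih =>
    intro Q R hQ hR
    have hQ' : ∀ i, IsPoly fun x => R x r * Q x i - Q x (r + 1) * shift (R x) i := fun i =>
      isPoly_sub (isPoly_mul (hR r) (hQ i)) (isPoly_mul (hQ _) (isPoly_shift hR i))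
    simp only [phi]
    exact isPoly_mul (isPoly_mul (hR r) (hQ' r)) (ih (fun i => isPoly_mul (hQ' r) (hQ' i))
      fun i => isPoly_mul (hR r) (isPoly_sub (isPoly_mul (hQ' r) (hR i)) (isPoly_mul (hR r) (hQ' i))))

theorem infinite_case [FiniteDimensional k F] [Infinite k] (h2 : (2 : k) ≠ 0)
    (hgen : IntermediateField.adjoin k ({α} : Set F) = ⊤) (hα : α ≠ 0) : grp (k := k) α = ⊤ := by
  classical
  have hint : IsIntegral k α := IsIntegral.of_finite k α
  obtain ⟨pb, hpb⟩ : ∃ pb : PowerBasis k F, pb.gen = α :=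
    ⟨(IntermediateField.adjoin.powerBasis hint).map
      ((IntermediateField.equivOfEq hgen).trans IntermediateField.topEquiv), by simp⟩
  set n := pb.dim with hn
  let ext : (Fin n → k) → ℕ → k := fun c i => if h : i < n then c ⟨i, h⟩ else 0
  let evec : (Fin n → k) → F := fun c => ∑ i : Fin n, algebraMap k F (c i) * α ^ (i : ℕ)
  have hext : ∀ c, ∑ i ∈ Finset.range n, algebraMap k F (ext c i) * α ^ i = evec c := fun c => by
    rw [← Fin.sum_univ_eq_sum_range (fun i => algebraMap k F (ext c i) * α ^ i)]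
    exact Finset.sum_congr rfl fun i _ => by simp [ext, i.2]
  have hevec : ∀ x : F, evec (fun i => pb.basis.repr x i) = x := fun x => by
    conv_rhs => rw [← pb.basis.sum_repr x]
    exact Finset.sum_congr rfl fun i _ => by rw [pb.basis_eq_pow, hpb, Algebra.smul_def]
  have hrepr : ∀ c, ∀ i, pb.basis.repr (evec c) i = c i := fun c i => by
    have : evec c = ∑ j : Fin n, c j • pb.basis j :=
      Finset.sum_congr rfl fun j _ => by rw [pb.basis_eq_pow, hpb, Algebra.smul_def]
    rw [this, pb.basis.repr_sum_self]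
  let Qx : ((Option (Fin n ⊕ Fin n)) → k) → ℕ → k := fun x i => if i = n then x none else ext (fun j => x (some (.inl j))) i
  let Rx : ((Option (Fin n ⊕ Fin n)) → k) → ℕ → k := fun x => ext (fun j => x (some (.inr j)))
  have evQx : ∀ x, evQ k α n (Qx x) =
      evec (fun j => x (some (.inl j))) + algebraMap k F (x none) * α ^ n := fun x => by
    rw [evQ, Finset.sum_range_succ, ← hext]
    congr 1
    · exact Finset.sum_congr rfl fun i hi => by
        rw [Finset.mem_range] at hi; simp [Qx, Nat.ne_of_lt hi]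
    · simp [Qx]
  have evPx : ∀ x, evP k α n (Rx x) = α * evec (fun j => x (some (.inr j))) := fun x => by
    exact congrArg (α * ·) (hext (fun j => x (some (.inr j))))
  suffices hsq : ∀ μ : F, μ ≠ 0 → upp (μ ^ 2) ∈ grp (k := k) α by
    refine top_of_upp hα fun x => ?_
    have hall : ∀ y : F, upp (y ^ 2) ∈ grp (k := k) α := fun y => by
      rcases eq_or_ne y 0 with rfl | hy
      · simp [upp_zero]
      · exact hsq y hy
    have h := mul_mem (hall (x + 1)) (inv_mem (hall (x - 1)))
    rw [upp_inv, upp_mul, show (x + 1) ^ 2 + -(x - 1) ^ 2 = x * (2 * 2) by ring] at h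
    have h4 := upp_smul h (1 / (2 * 2) : k)
    have h2F : (2 : F) ≠ 0 := fun h => h2 ((map_eq_zero (algebraMap k F)).1 (by rw [map_ofNat]; exact h))
    rwa [map_div₀, map_one, map_mul, map_ofNat, mul_assoc, mul_one_div_cancel (mul_ne_zero h2F h2F), mul_one] at h4
  intro μ hμ
  let psi : F → ((Option (Fin n ⊕ Fin n)) → k) → ((Option (Fin n ⊕ Fin n)) → k) := fun c x o => match o with
    | none => x none
    | some (.inl i) => pb.basis.repr (c * evQ k α n (Qx x) - algebraMap k F (x none) * α ^ n) i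
    | some (.inr i) => pb.basis.repr (c * evec (fun j => x (some (.inr j)))) i
  have psiQ : ∀ c x, evQ k α n (Qx (psi c x)) = c * evQ k α n (Qx x) := fun c x => by
    rw [evQx (psi c x)]
    show evec (fun j => pb.basis.repr _ j) + _ = _
    rw [hevec]
    show c * evQ k α n (Qx x) - algebraMap k F (x none) * α ^ n + algebraMap k F (x none) * α ^ n = _
    ring
  have psiR : ∀ c x, evec (fun j => psi c x (some (.inr j))) = c * evec (fun j => x (some (.inr j))) :=
    fun c x => hevec _
  have psi_inv : ∀ x, psi μ (psi μ⁻¹ x) = x := by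
    intro x
    funext o
    match o with
    | none => rfl
    | some (.inl i) =>
      show pb.basis.repr (μ * evQ k α n (Qx (psi μ⁻¹ x)) - algebraMap k F (x none) * α ^ n) i = _
      rw [psiQ, ← mul_assoc, mul_inv_cancel₀ hμ, one_mul, evQx, add_sub_cancel_right, hrepr]
    | some (.inr i) =>
      show pb.basis.repr (μ * evec (fun j => psi μ⁻¹ x (some (.inr j)))) i = _
      rw [psiR, ← mul_assoc, mul_inv_cancel₀ hμ, one_mul, hrepr]
  have polyX : ∀ o, IsPoly fun x : (Option (Fin n ⊕ Fin n)) → k => x o := fun o => ⟨MvPolynomial.X o, fun x => by simp⟩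
  have polyQ : ∀ i, IsPoly fun x : (Option (Fin n ⊕ Fin n)) → k => Qx x i := fun i => by
    simp only [Qx, ext]
    split_ifs
    exacts [polyX _, polyX _, ⟨0, fun x => by simp⟩]
  have polyR : ∀ i, IsPoly fun x : (Option (Fin n ⊕ Fin n)) → k => Rx x i := fun i => by
    simp only [Rx, ext]
    split_ifs
    exacts [polyX _, ⟨0, fun x => by simp⟩]
  have sum_poly : ∀ {γ : Type} (S : Finset γ) (f : γ → ((Option (Fin n ⊕ Fin n)) → k) → k), (∀ j ∈ S, IsPoly (f j)) →
      IsPoly fun x => ∑ j ∈ S, f j x := by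
    intro γ S f hf
    induction S using Finset.induction_on with
    | empty => exact ⟨0, fun x => by simp⟩
    | @insert a S ha ih =>
      obtain ⟨p, hp⟩ := hf a (Finset.mem_insert_self a S)
      obtain ⟨q, hq⟩ := ih fun j hj => hf j (Finset.mem_insert_of_mem hj)
      exact ⟨p + q, fun x => by show _ = ∑ j ∈ insert a S, f j x; rw [Finset.sum_insert ha]; simp [hp, hq]⟩
  have polylin : ∀ (L : F →ₗ[k] k) (c : ℕ → F) (S : Finset ℕ) (f : ℕ → ((Option (Fin n ⊕ Fin n)) → k) → k), (∀ j, IsPoly (f j)) →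
      IsPoly fun x => L (∑ j ∈ S, algebraMap k F (f j x) * c j) := by
    intro L c S f hf
    simp only [map_sum, ← Algebra.smul_def, map_smul, smul_eq_mul]
    exact sum_poly S _ fun j _ => isPoly_mul (hf j) ⟨MvPolynomial.C (L (c j)), fun x => by simp⟩
  have polyPsi : ∀ o, IsPoly fun x : (Option (Fin n ⊕ Fin n)) → k => psi μ x o := by
    intro o
    match o with
    | none => exact polyX none
    | some (.inl i) =>
      simp only [psi, ← Module.Basis.coord_apply]
      simp only [map_sub, evQ, Finset.mul_sum, mul_left_comm μ]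
      refine isPoly_sub (polylin _ (fun j => μ * α ^ j) _ (fun j x => Qx x j) polyQ) ?_
      simp only [← Algebra.smul_def, map_smul, smul_eq_mul]
      exact isPoly_mul (polyX none) ⟨MvPolynomial.C _, fun x => MvPolynomial.eval_C _⟩
    | some (.inr i) =>
      simp only [psi, ← Module.Basis.coord_apply]
      simp only [← hext, Finset.mul_sum, mul_left_comm μ]
      exact polylin _ (fun j => μ * α ^ j) _ (fun j x => Rx x j) polyR
  obtain ⟨p₁, hp₁⟩ := isPoly_phi n polyQ polyR
  obtain ⟨p₂, hp₂⟩ := isPoly_phi n (Q := fun x => Qx (psi μ x)) (R := fun x => Rx (psi μ x))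
    (fun i => by
      simp only [Qx, ext]
      split_ifs
      exacts [polyPsi none, polyPsi (some (.inl _)), ⟨0, fun x => by simp⟩])
    (fun i => by
      simp only [Rx, ext]
      split_ifs
      exacts [polyPsi (some (.inr _)), ⟨0, fun x => by simp⟩])
  obtain ⟨Q₀, R₀, hne, -, hQ0, hR0⟩ := exists_good (k := k) n 1 one_ne_zero
  let x₀ : (Option (Fin n ⊕ Fin n)) → k := fun o => match o with
    | none => Q₀ n
    | some (.inl i) => Q₀ i
    | some (.inr i) => R₀ i
  have hQx : Qx x₀ = Q₀ := funext fun i => by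
    simp only [Qx, ext, x₀]
    split_ifs with h h'
    · rw [h]
    · rfl
    · exact (hQ0 i (by omega)).symm
  have hRx : Rx x₀ = R₀ := funext fun i => by
    simp only [Rx, ext, x₀]
    split_ifs with h'
    · rfl
    · exact (hR0 i (by omega)).symm
  have e1 : p₁ ≠ 0 := fun h => hne (by
    have := hp₁ x₀; beta_reduce at this; rw [h, map_zero, hQx, hRx] at this; exact this.symm)
  have e2 : p₂ ≠ 0 := fun h => hne (by
    have := hp₂ (psi μ⁻¹ x₀); beta_reduce at this; rw [h, map_zero] at this
    rw [← hQx, ← hRx]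
    exact ((this.trans (congrArg (fun y => phi n (Qx y) (Rx y)) (psi_inv x₀)))).symm)
  obtain ⟨x, hx⟩ : ∃ x, MvPolynomial.eval x (p₁ * p₂) ≠ 0 := by
    by_contra hno
    push Not at hno
    exact mul_ne_zero e1 e2 (MvPolynomial.funext fun x => by simpa using hno x)
  rw [map_mul, hp₁, hp₂, mul_ne_zero_iff] at hx
  obtain ⟨g₁, hg₁, s₁, hs₁, a00, a10⟩ := word α n _ _ hx.1
  obtain ⟨g₂, hg₂, s₂, hs₂, b00, b10⟩ := word α n _ _ hx.2
  replace b10 := b10.trans (congrArg (algebraMap k F s₂ * ·) ((evPx (psi μ x)).trans (congrArg (α * ·) (psiR μ x))))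
  beta_reduce at b10
  replace b00 := b00.trans (congrArg (algebraMap k F s₂ * ·) (psiQ μ x))
  beta_reduce at b00
  rw [evPx] at a10
  set v0 := evQ k α n (Qx x)
  set v1 := evec (fun j => x (some (.inr j)))
  have hA1 : algebraMap k F s₁ ≠ 0 := by simpa using hs₁
  have hA2 : algebraMap k F s₂ ≠ 0 := by simpa using hs₂
  set d := algebraMap k F s₂ * μ / algebraMap k F s₁ with hd
  have hg : g₁⁻¹ * g₂ ∈ grp (k := k) α := mul_mem (inv_mem hg₁) hg₂
  set g := g₁⁻¹ * g₂ with hg'
  have hdet := Matrix.SpecialLinearGroup.det_coe g₁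
  rw [Matrix.det_fin_two, a00, a10] at hdet
  have hgv : (g : M2) = Matrix.adjugate (g₁ : M2) * (g₂ : M2) := by
    rw [hg', Matrix.SpecialLinearGroup.coe_mul, Matrix.SpecialLinearGroup.coe_inv]
  have g10 : (g : M2) 1 0 = 0 := by
    rw [hgv, Matrix.adjugate_fin_two]
    simp [Matrix.mul_apply, Fin.sum_univ_two, a00, a10, b00, b10]
    ring
  have g00 : (g : M2) 0 0 = d := by
    rw [hgv, Matrix.adjugate_fin_two, hd, eq_div_iff hA1]
    simp [Matrix.mul_apply, Fin.sum_univ_two, b00, b10]
    linear_combination (algebraMap k F s₂ * μ) * hdet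
  have hconj : g * upp (1 : F) * g⁻¹ = upp (d ^ 2) := by
    rw [mul_inv_eq_iff_eq_mul]
    apply Subtype.ext
    have hd1 := Matrix.SpecialLinearGroup.det_coe g
    rw [Matrix.det_fin_two, g10, mul_zero, sub_zero, g00] at hd1
    simp only [Matrix.SpecialLinearGroup.coe_mul, upp_val]
    apply ext2 <;> simp [Matrix.mul_apply, Fin.sum_univ_two, g10, g00]
    linear_combination (-d) * hd1
  have h1 : upp (1 : F) ∈ grp (k := k) α := by simpa using upp_mem (α := α) (1 : k)
  have hd2 : upp (d ^ 2) ∈ grp (k := k) α := hconj ▸ mul_mem (mul_mem hg h1) (inv_mem hg)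
  have := upp_smul hd2 ((s₁ / s₂) ^ 2)
  rwa [← show μ ^ 2 = d ^ 2 * algebraMap k F ((s₁ / s₂) ^ 2) by
    rw [hd, map_pow, map_div₀]; field_simp] at this

end Cfsg.Agent.DicksonAlpha
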