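/-
Classes of root subgroups given by additive one-parameter families.
-/
import Cfsg.Prelude.Def_RootSubgroups
import Cfsg.Agent.Lib.Timmesfeld.SL2
import Cfsg.Agent.Lib.Timmesfeld.Line
set_option autoImplicit false

namespace Cfsg.Agent.RootClass

open Cfsg.Agent.Timmesfeld

variable {G : Type*} [Group G] {k : Type*} [Field k] {P : Type*}

/-- A family of injective images of the additive group of a field. -/
structure Fam (G : Type*) [Group G] (k : Type*) [Field k] (P : Type*) where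
  T : P → k → G
  add : ∀ p a b, T p (a + b) = T p a * T p b
  ne : ∀ p, T p 1 ≠ 1

variable (R : Fam G k P)

theorem Fam.T_zero (p : P) : R.T p 0 = 1 := by
  have := R.add p 0 0
  rw [add_zero] at this
  exact left_eq_mul.1 this

theorem Fam.T_neg (p : P) (a : k) : R.T p (-a) = (R.T p a)⁻¹ :=
  eq_inv_of_mul_eq_one_right (by rw [← R.add, add_neg_cancel, R.T_zero])

/-- The subgroup of one member of the family. -/
def Fam.grp (p : P) : Subgroup G where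
  carrier := Set.range (R.T p)
  one_mem' := ⟨0, R.T_zero p⟩
  mul_mem' := by rintro _ _ ⟨a, rfl⟩ ⟨b, rfl⟩; exact ⟨a + b, R.add p a b⟩
  inv_mem' := by rintro _ ⟨a, rfl⟩; exact ⟨-a, R.T_neg p a⟩

theorem Fam.mem_grp {p : P} {x : G} : x ∈ R.grp p ↔ ∃ a, R.T p a = x := Iff.rfl

theorem Fam.grp_comm (p : P) : IsMulCommutative (R.grp p) := by
  refine ⟨⟨fun a b => Subtype.ext ?_⟩⟩
  obtain ⟨x, hx⟩ := a.2
  obtain ⟨y, hy⟩ := b.2
  show a.1 * b.1 = b.1 * a.1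
  rw [← hx, ← hy, ← R.add, ← R.add, add_comm]

theorem Fam.grp_ne_bot (p : P) : R.grp p ≠ ⊥ := fun h =>
  R.ne p (Subgroup.mem_bot.1 (h ▸ (⟨1, rfl⟩ : R.T p 1 ∈ R.grp p)))

/-- The set of member subgroups. -/
def Fam.roots : Set (Subgroup G) := Set.range R.grp

/-- Two members generate an embedded two-dimensional special linear group. -/
def Fam.Linked (p q : P) : Prop :=
  ∃ φ : Matrix.SpecialLinearGroup (Fin 2) k →* G, Function.Injective φ ∧ ∃ μ ν : k, μ ≠ 0 ∧ ν ≠ 0 ∧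
    (∀ c, φ (upperSL c) = R.T p (μ * c)) ∧ ∀ c, φ (lowerSL c) = R.T q (ν * c)

/-- The commutator of two members is a third member, centralised by both. -/
def Fam.Bracket (p q : P) : Prop :=
  ∃ r κ, κ ≠ 0 ∧ (∀ c d, R.T p c * R.T q d * (R.T p c)⁻¹ * (R.T q d)⁻¹ = R.T r (κ * (c * d))) ∧
    (∀ e c, R.T r e * R.T p c = R.T p c * R.T r e) ∧ ∀ e d, R.T r e * R.T q d = R.T q d * R.T r e

/-- The two members commute. -/
def Fam.Comm (p q : P) : Prop := ∀ c d, R.T p c * R.T q d = R.T q d * R.T p c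

theorem Fam.commutator_eq_bot {p q : P} (h : R.Comm p q) : ⁅R.grp p, R.grp q⁆ = ⊥ :=
  bracket_eq_bot.2 fun _ ha _ hb => by
    obtain ⟨c, rfl⟩ := ha; obtain ⟨d, rfl⟩ := hb; exact h c d

theorem Fam.linked_map {p q : P} {φ : Matrix.SpecialLinearGroup (Fin 2) k →* G} {μ ν : k} (hμ : μ ≠ 0) (hν : ν ≠ 0)
    (hu : ∀ c, φ (upperSL c) = R.T p (μ * c)) (hl : ∀ c, φ (lowerSL c) = R.T q (ν * c)) :
    (Cfsg.upperUnipotentSL2 k).map φ = R.grp p ∧ (Cfsg.lowerUnipotentSL2 k).map φ = R.grp q := by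
  constructor <;> ext x <;> constructor
  · rintro ⟨g, hg, rfl⟩
    obtain ⟨c, rfl⟩ := mem_upper.1 hg
    exact ⟨_, (hu c).symm⟩
  · rintro ⟨a, rfl⟩
    exact ⟨upperSL (a / μ), mem_upper.2 ⟨_, rfl⟩, by rw [hu, mul_div_cancel₀ _ hμ]⟩
  · rintro ⟨g, hg, rfl⟩
    obtain ⟨c, rfl⟩ := mem_lower.1 hg
    exact ⟨_, (hl c).symm⟩
  · rintro ⟨a, rfl⟩
    exact ⟨lowerSL (a / ν), mem_lower.2 ⟨_, rfl⟩, by rw [hl, mul_div_cancel₀ _ hν]⟩

/-- An injective image of a rank one pair. -/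
theorem rankOne_map {H : Type*} [Group H] {A B : Subgroup H} (h : Cfsg.IsRankOnePair A B) (φ : H →* G)
    (hφ : Function.Injective φ) : Cfsg.IsRankOnePair (A.map φ) (B.map φ) := by
  have hc : ∀ (C : Subgroup H) (x : H), Cfsg.conjBy (C.map φ) (φ x) = (Cfsg.conjBy C x).map φ := fun C x => by
    simp only [Cfsg.conjBy, Subgroup.map_map]
    congr 1
    ext y
    simp [MulAut.conj_apply]
  have hcond : ∀ {A B : Subgroup H}, Cfsg.RankOneCondition A B → Cfsg.RankOneCondition (A.map φ) (B.map φ) := by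
    intro A B h a ha ha1
    obtain ⟨x, hx, rfl⟩ := ha
    obtain ⟨y, hy, hy1, he⟩ := h x hx fun e => ha1 (by rw [e, map_one])
    exact ⟨φ y, ⟨y, hy, rfl⟩, fun e => hy1 (hφ (by rw [e, map_one])), by
      rw [← map_inv, ← map_inv, hc, hc, he]⟩
  refine ⟨fun e => h.ne (Subgroup.map_injective hφ e), ?_, ?_, hcond h.cond_left, hcond h.cond_right⟩
  · haveI := h.nilpotent_left
    exact Group.nilpotent_of_mulEquiv (A.equivMapOfInjective φ hφ)
  · haveI := h.nilpotent_right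
    exact Group.nilpotent_of_mulEquiv (B.equivMapOfInjective φ hφ)

theorem Fam.linked_rankOne {p q : P} (h : R.Linked p q) :
    Cfsg.IsRankOnePair (R.grp p) (R.grp q) ∧ Cfsg.IsPSL2PairOver k (R.grp p) (R.grp q) ∧
      ∃ g : G, R.grp q = Cfsg.conjBy (R.grp p) g := by
  obtain ⟨φ, hφ, μ, ν, hμ, hν, hu, hl⟩ := h
  obtain ⟨h1, h2⟩ := R.linked_map hμ hν hu hl
  obtain ⟨⟨htop, hp⟩, -⟩ := special_SL (k := k)
  refine ⟨h1 ▸ h2 ▸ rankOne_map (Cfsg.RankOnePair_symm hp) φ hφ, ⟨φ, ?_, ?_, h1, h2⟩, ?_⟩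
  · rw [← h1, ← h2, ← Subgroup.map_sup, sup_comm, htop, MonoidHom.range_eq_map]
  · rw [φ.ker_eq_bot hφ]; exact bot_le
  · obtain ⟨g, -, hg⟩ := exists_conj_eq_right (Cfsg.RankOnePair_symm hp)
    refine ⟨φ g, ?_⟩
    rw [← h1, ← h2, ← hg]
    simp only [Cfsg.conjBy, Subgroup.map_map]
    congr 1
    ext y
    simp [MulAut.conj_apply]

theorem Fam.bracket_case {p q : P} (h : R.Bracket p q) :
    Cfsg.RootCommutatorCase R.roots (R.grp p) (R.grp q) := by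
  obtain ⟨r, κ, hκ, hc, hp, hq⟩ := h
  have cl1 : ∀ {c : k}, c ≠ 0 →
      Subgroup.closure ((fun b : G => R.T p c * b * (R.T p c)⁻¹ * b⁻¹) '' (R.grp q : Set G)) = R.grp r := fun {c} h0 => by
    refine le_antisymm ((Subgroup.closure_le _).2 ?_) ?_
    · rintro _ ⟨b, ⟨d, rfl⟩, rfl⟩
      exact ⟨_, (hc c d).symm⟩
    · rintro _ ⟨e, rfl⟩
      exact Subgroup.subset_closure ⟨R.T q (e / (κ * c)), ⟨_, rfl⟩, by
        show R.T p c * _ * _ * _ = _
        rw [hc]; congr 1; field_simp⟩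
  have cl2 : ∀ {d : k}, d ≠ 0 →
      Subgroup.closure ((fun a : G => a * R.T q d * a⁻¹ * (R.T q d)⁻¹) '' (R.grp p : Set G)) = R.grp r := fun {d} h0 => by
    refine le_antisymm ((Subgroup.closure_le _).2 ?_) ?_
    · rintro _ ⟨a, ⟨c, rfl⟩, rfl⟩
      exact ⟨_, (hc c d).symm⟩
    · rintro _ ⟨e, rfl⟩
      exact Subgroup.subset_closure ⟨R.T p (e / (κ * d)), ⟨_, rfl⟩, by
        show R.T p _ * _ * _ * _ = _
        rw [hc]; congr 1; field_simp⟩
  have heq : ⁅R.grp p, R.grp q⁆ = R.grp r := by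
    refine le_antisymm (Subgroup.commutator_le.2 fun a ha b hb => ?_) ?_
    · obtain ⟨c, rfl⟩ := ha; obtain ⟨d, rfl⟩ := hb
      exact ⟨_, (hc c d).symm⟩
    · rw [← cl1 (c := (1 : k)) one_ne_zero]
      refine (Subgroup.closure_le _).2 ?_
      rintro _ ⟨b, hb, rfl⟩
      exact Subgroup.commutator_mem_commutator ⟨1, rfl⟩ hb
  refine ⟨⟨r, heq.symm⟩, fun x hx y hy => ?_, fun a ha ha1 => ?_, fun b hb hb1 => ?_⟩
  · rw [heq] at hx
    obtain ⟨e, rfl⟩ := hx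
    have hle : R.grp p ⊔ R.grp q ≤ Subgroup.centralizer {R.T r e} := sup_le
      (by rintro _ ⟨c, rfl⟩; exact Subgroup.mem_centralizer_singleton_iff.2 (hp e c).symm)
      (by rintro _ ⟨d, rfl⟩; exact Subgroup.mem_centralizer_singleton_iff.2 (hq e d).symm)
    exact (Subgroup.mem_centralizer_singleton_iff.1 (hle hy)).symm
  · obtain ⟨c, rfl⟩ := ha
    rw [heq]
    exact cl1 fun h0 => ha1 (by rw [h0, R.T_zero])
  · obtain ⟨d, rfl⟩ := hb
    rw [heq]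
    exact cl2 fun h0 => hb1 (by rw [h0, R.T_zero])

/-- The commutator case excludes a rank one pair. -/
theorem not_rankOne_of_commCase {S : Set (Subgroup G)} {A B : Subgroup G} (hB : IsMulCommutative B)
    (h : Cfsg.RootCommutatorCase S A B) : ¬ Cfsg.IsRankOnePair A B := by
  intro hp
  refine rankPair_not_commute hp (bracket_eq_bot.2 fun x hx z hz => ?_)
  obtain ⟨a, ha, ha1⟩ := exists_ne_one (ne_bot_left hp)
  obtain ⟨b, hb, -, he⟩ := hp.cond_left a ha ha1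
  have hcen : ∀ {u v : G}, u ∈ A → v ∈ B → ∀ w ∈ A ⊔ B, (u * v * u⁻¹ * v⁻¹) * w = w * (u * v * u⁻¹ * v⁻¹) :=
    fun hu hv w hw => h.2.1 _ (Subgroup.commutator_mem_commutator hu hv) w hw
  obtain ⟨y, hy, hxy⟩ : ∃ y ∈ B, b⁻¹ * x * b = a⁻¹ * y * a := by
    have hm : b⁻¹ * x * b⁻¹⁻¹ ∈ Cfsg.conjBy A b⁻¹ := ⟨x, hx, by simp [MulAut.conj_apply]⟩
    rw [he] at hm
    obtain ⟨y, hy, hy'⟩ := hm
    refine ⟨y, hy, ?_⟩
    simpa [MulAut.conj_apply] using hy'.symm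
  have hzx : z * (b⁻¹ * x * b) = b⁻¹ * x * b * z ↔ z * x = x * z := by
    have e : b⁻¹ * x * b = x * (x⁻¹ * b⁻¹ * x * b) := by group
    have hk : (x⁻¹ * b⁻¹ * x * b) * z = z * (x⁻¹ * b⁻¹ * x * b) := by
      have := hcen (A.inv_mem hx) (B.inv_mem hb) z (Subgroup.mem_sup_right hz)
      simpa using this
    rw [e]
    constructor
    · intro h1
      apply mul_right_cancel (b := x⁻¹ * b⁻¹ * x * b)
      rw [mul_assoc z, h1, mul_assoc, hk, ← mul_assoc]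
    · intro h1
      rw [← mul_assoc, h1, mul_assoc, ← hk, ← mul_assoc]
  have hzy : z * (a⁻¹ * y * a) = a⁻¹ * y * a * z ↔ z * y = y * z := by
    have e : a⁻¹ * y * a = (a⁻¹ * y * a * y⁻¹) * y := by group
    have hk : (a⁻¹ * y * a * y⁻¹) * z = z * (a⁻¹ * y * a * y⁻¹) := by
      have := hcen (A.inv_mem ha) hy z (Subgroup.mem_sup_right hz)
      simpa using this
    rw [e]
    constructor
    · intro h1
      apply mul_left_cancel (a := a⁻¹ * y * a * y⁻¹)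
      rw [← mul_assoc, hk, mul_assoc, h1, mul_assoc]
    · intro h1
      rw [← mul_assoc, ← hk, mul_assoc, h1, ← mul_assoc]
  have hzy' : z * y = y * z := congrArg Subtype.val (hB.is_comm.comm (⟨z, hz⟩ : B) ⟨y, hy⟩)
  exact (hzx.1 (by rw [hxy]; exact hzy.2 hzy')).symm

variable (hgen : ∀ H : Subgroup G, (∀ p c, R.T p c ∈ H) → H = ⊤)
variable (hconj : ∀ (g : G) p, ∃ q, Cfsg.conjBy (R.grp p) g = R.grp q)
variable (hpair : ∀ p q, R.Comm p q ∨ R.Linked p q ∨ R.Bracket p q)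

include hgen hconj hpair

theorem Fam.isRootSubgroupSet : Cfsg.IsRootSubgroupSet R.roots where
  commutative := by rintro _ ⟨p, rfl⟩; exact R.grp_comm p
  ne_bot := by rintro _ ⟨p, rfl⟩; exact R.grp_ne_bot p
  generates := hgen _ fun p c =>
    Subgroup.mem_iSup_of_mem (R.grp p) (Subgroup.mem_iSup_of_mem ⟨p, rfl⟩ ⟨c, rfl⟩)
  conj_mem := by
    rintro _ ⟨p, rfl⟩ g
    obtain ⟨q, hq⟩ := hconj g p
    exact ⟨q, hq.symm⟩
  pair := by
    rintro _ ⟨p, rfl⟩ _ ⟨q, rfl⟩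
    rcases hpair p q with h | h | h
    · exact Or.inl (R.commutator_eq_bot h)
    · exact Or.inr (Or.inl (R.linked_rankOne h).1)
    · exact Or.inr (Or.inr (R.bracket_case h))

theorem Fam.isKRootSubgroupSet : Cfsg.IsKRootSubgroupSet k R.roots := by
  refine ⟨R.isRootSubgroupSet hgen hconj hpair, ?_⟩
  rintro _ ⟨p, rfl⟩ _ ⟨q, rfl⟩ h
  rcases hpair p q with h' | h' | h'
  · exact absurd (R.commutator_eq_bot h') (rankPair_not_commute h)
  · exact (R.linked_rankOne h').2.1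
  · exact absurd h (not_rankOne_of_commCase (R.grp_comm q) (R.bracket_case h'))

omit hgen hconj hpair

theorem Fam.isDegenerate (h2 : ∀ p q, R.Comm p q ∨ R.Linked p q) : Cfsg.IsDegenerateRootSet R.roots := by
  rintro _ ⟨p, rfl⟩ _ ⟨q, rfl⟩ h
  rcases h2 p q with h' | h'
  · obtain ⟨r, hr⟩ := h.1
    exact R.grp_ne_bot r (hr.trans (R.commutator_eq_bot h'))
  · exact not_rankOne_of_commCase (R.grp_comm q) h (R.linked_rankOne h').1

theorem Fam.connected (hpath : ∀ p q, ∃ r, R.Linked p r ∧ R.Linked r q) :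
    Cfsg.IsConnectedFamily (Cfsg.FAdj R.roots) R.roots := by
  rintro _ ⟨p, rfl⟩ _ ⟨q, rfl⟩
  obtain ⟨r, h1, h2⟩ := hpath p q
  exact (Relation.ReflTransGen.single ⟨⟨p, rfl⟩, ⟨r, rfl⟩, (R.linked_rankOne h1).1⟩).tail
    ⟨⟨r, rfl⟩, ⟨q, rfl⟩, (R.linked_rankOne h2).1⟩

theorem Fam.conjClass [Nonempty P] (hpath : ∀ p q, ∃ r, R.Linked p r ∧ R.Linked r q) :
    Cfsg.IsConjClassOfSubgroups R.roots := by
  refine ⟨Set.range_nonempty _, ?_⟩
  rintro _ ⟨p, rfl⟩ _ ⟨q, rfl⟩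
  obtain ⟨r, h1, h2⟩ := hpath p q
  obtain ⟨g, hg⟩ := (R.linked_rankOne h1).2.2
  obtain ⟨g', hg'⟩ := (R.linked_rankOne h2).2.2
  exact ⟨g' * g, by rw [hg', hg, conjBy_conjBy]⟩

end Cfsg.Agent.RootClass
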