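/-
Root involutions from one-parameter families over finite fields of characteristic two.
-/
import Cfsg.Agent.Lib.RootClass.Build
set_option autoImplicit false

namespace Cfsg.Agent.RootClass

open Cfsg.Agent.Timmesfeld
open Matrix

variable {k : Type*} [Field k]

theorem sl2_conj_upper_lower {c d s : k} (hs : s ≠ 0) (h : s ^ 2 * c = -d) :
    ∃ g : Matrix.SpecialLinearGroup (Fin 2) k, g * upperSL c * g⁻¹ = lowerSL d := by
  refine ⟨⟨!![0, -s⁻¹; s, 0], by simp [Matrix.det_fin_two, hs]⟩, mul_inv_eq_iff_eq_mul.2 ?_⟩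
  ext i j
  show (!![0, -s⁻¹; s, 0] * ((upperSL c : Matrix.SpecialLinearGroup (Fin 2) k) : Matrix (Fin 2) (Fin 2) k)) i j =
    (((lowerSL d : Matrix.SpecialLinearGroup (Fin 2) k) : Matrix (Fin 2) (Fin 2) k) * !![0, -s⁻¹; s, 0]) i j
  fin_cases i <;> fin_cases j <;> simp [Matrix.mul_apply, Fin.sum_univ_two, upperSL_coe, lowerSL_coe]
  field_simp
  linear_combination h

variable [Fintype k] [CharP k 2]

theorem sl2_product {a b : k} (ha : a ≠ 0) (hb : b ≠ 0) :
    Odd (orderOf (upperSL a * lowerSL b)) ∧ (Fintype.card k = 2 → orderOf (upperSL a * lowerSL b) = 3) := by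
  have h2 : (2 : k) = 0 := CharTwo.two_eq_zero
  set g := upperSL a * lowerSL b with hg
  set M : Matrix (Fin 2) (Fin 2) k := !![1 + a * b, a; b, 1] with hM
  have hgM : (g : Matrix (Fin 2) (Fin 2) k) = M := by
    rw [hg, Matrix.SpecialLinearGroup.coe_mul, hM]
    ext i j
    fin_cases i <;> fin_cases j <;> simp [Matrix.mul_apply, Fin.sum_univ_two, upperSL_coe, lowerSL_coe]
  have hsq : M * M = (a * b) • M + 1 := by
    ext i j
    fin_cases i <;> fin_cases j <;>
      simp [hM, Matrix.mul_apply, Fin.sum_univ_two] <;>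
      first
      | linear_combination (a * b) * h2
      | linear_combination a * h2
      | linear_combination b * h2
      | ring
  have hlin : ∀ n : ℕ, ∃ x y : k, M ^ n = x • M + y • 1 := by
    intro n
    induction n with
    | zero => exact ⟨0, 1, by simp⟩
    | succ n ih =>
      obtain ⟨x, y, h⟩ := ih
      refine ⟨x * (a * b) + y, x, ?_⟩
      rw [pow_succ, h, add_mul, smul_mul_assoc, smul_mul_assoc, hsq, one_mul]
      module
  have hg1 : g ≠ 1 := fun h => ha (by
    have := congrFun (congrFun (congrArg (fun g : Matrix.SpecialLinearGroup (Fin 2) k =>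
      (g : Matrix (Fin 2) (Fin 2) k)) h) 0) 1
    simpa [hgM, hM] using this)
  constructor
  · refine Nat.not_even_iff_odd.1 fun ⟨m, hm⟩ => ?_
    obtain ⟨x, y, hxy⟩ := hlin m
    have hpos : 0 < orderOf g := orderOf_pos g
    have hne : g ^ m ≠ 1 := fun h => by
      have := Nat.le_of_dvd (by omega) (orderOf_dvd_of_pow_eq_one h)
      omega
    have h1 : M ^ m * M ^ m = 1 := by
      rw [← pow_add, ← hm, ← hgM, ← Matrix.SpecialLinearGroup.coe_pow, pow_orderOf_eq_one,
        Matrix.SpecialLinearGroup.coe_one]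
    rw [hxy] at h1
    have e01 := congrFun (congrFun h1 0) 1
    have e11 := congrFun (congrFun h1 1) 1
    simp [hM, Matrix.mul_apply, Fin.sum_univ_two] at e01 e11
    have hx : x = 0 := by
      have : x ^ 2 * (a * b) * a = 0 := by linear_combination e01 - (x ^ 2 * a + x * y * a) * h2
      simpa [ha, hb] using this
    have hy : y = 1 := by
      rw [hx] at e11
      have : (y - 1) ^ 2 = 0 := by linear_combination e11 - (y - 1) * h2
      exact sub_eq_zero.1 (pow_eq_zero_iff two_ne_zero |>.1 this)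
    refine hne (Subtype.ext ?_)
    rw [Matrix.SpecialLinearGroup.coe_pow, hgM, hxy, hx, hy, zero_smul, zero_add, one_smul,
      Matrix.SpecialLinearGroup.coe_one]
  · intro hq
    have hone : ∀ c : k, c ≠ 0 → c = 1 := fun c hc => by
      have := FiniteField.pow_card_sub_one_eq_one c hc
      rwa [hq, pow_one] at this
    haveI : Fact (Nat.Prime 3) := ⟨Nat.prime_three⟩
    refine orderOf_eq_prime (Subtype.ext ?_) hg1
    rw [Matrix.SpecialLinearGroup.coe_pow, hgM, Matrix.SpecialLinearGroup.coe_one, pow_succ, pow_two, hsq,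
      add_mul, smul_mul_assoc, hsq, hone a ha, hone b hb, one_mul, one_smul, one_smul, one_mul]
    ext i j
    simp only [Matrix.add_apply]
    linear_combination M i j * h2

variable {G : Type*} [Group G] {P : Type*} (R : Fam G k P)

/-- The non-trivial elements of the members. -/
def Fam.invols : Set G := {x | ∃ p c, c ≠ 0 ∧ R.T p c = x}

variable (hne : ∀ p (c : k), c ≠ 0 → R.T p c ≠ 1)
include hne

theorem Fam.orderOf_invol {x : G} (hx : x ∈ R.invols) : orderOf x = 2 := by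
  obtain ⟨p, c, hc, rfl⟩ := hx
  exact orderOf_eq_prime (by rw [pow_two, ← R.add, CharTwo.add_self_eq_zero, R.T_zero]) (hne p c hc)

variable (hgen : ∀ H : Subgroup G, (∀ p c, R.T p c ∈ H) → H = ⊤)
variable (hcmem : ∀ x ∈ R.invols, ∀ g : G, g * x * g⁻¹ ∈ R.invols)
variable (hpair : ∀ p q, R.Comm p q ∨ R.Linked p q ∨ R.Bracket p q)

theorem Fam.invol_pair {x y : G} (hpair : ∀ p q, R.Comm p q ∨ R.Linked p q ∨ R.Bracket p q)
    (hx : x ∈ R.invols) (hy : y ∈ R.invols) :
    (x * y = y * x ∨ Odd (orderOf (x * y)) ∨ (orderOf (x * y) = 4 ∧ (x * y) ^ 2 ∈ R.invols)) ∧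
      (Fintype.card k = 2 → Odd (orderOf (x * y)) → orderOf (x * y) = 1 ∨ orderOf (x * y) = 3) := by
  have ox := R.orderOf_invol hne hx
  have oy := R.orderOf_invol hne hy
  have x2 : x * x = 1 := by rw [← pow_two, ← ox, pow_orderOf_eq_one]
  have y2 : y * y = 1 := by rw [← pow_two, ← oy, pow_orderOf_eq_one]
  obtain ⟨p, c, hc, rfl⟩ := hx
  obtain ⟨q, d, hd, rfl⟩ := hy
  rcases hpair p q with h | ⟨φ, hφ, μ, ν, hμ, hν, hu, hl⟩ | ⟨r, κ, hκ, hcm, -, -⟩
  · refine ⟨Or.inl (h c d), fun _ hodd => Or.inl ?_⟩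
    have h4 : (R.T p c * R.T q d) ^ 2 = 1 := by
      rw [(Commute.mul_pow (h c d) 2), pow_two, pow_two, x2, y2, one_mul]
    rcases (Nat.dvd_prime Nat.prime_two).1 (orderOf_dvd_of_pow_eq_one h4) with h1 | h1
    · exact h1
    · rw [h1] at hodd; exact absurd hodd (by decide)
  · have e : R.T p c * R.T q d = φ (upperSL (c / μ) * lowerSL (d / ν)) := by
      rw [map_mul, hu, hl, mul_div_cancel₀ _ hμ, mul_div_cancel₀ _ hν]
    obtain ⟨h1, h3⟩ := sl2_product (k := k) (div_ne_zero hc hμ) (div_ne_zero hd hν)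
    rw [e, orderOf_injective φ hφ]
    exact ⟨Or.inr (Or.inl h1), fun hq _ => Or.inr (h3 hq)⟩
  · have hsq : (R.T p c * R.T q d) ^ 2 = R.T r (κ * (c * d)) := by
      rw [← hcm, pow_two, inv_eq_of_mul_eq_one_right x2, inv_eq_of_mul_eq_one_right y2, mul_assoc, mul_assoc,
        mul_assoc]
    have h0 := mul_ne_zero hκ (mul_ne_zero hc hd)
    have h4 : orderOf (R.T p c * R.T q d) = 4 := by
      haveI : Fact (Nat.Prime 2) := ⟨Nat.prime_two⟩
      refine orderOf_eq_prime_pow (p := 2) (n := 1) ?_ ?_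
      · rw [pow_one, hsq]; exact hne r _ h0
      · rw [show 2 ^ (1 + 1) = 2 * 2 by norm_num, pow_mul, hsq, pow_two, ← R.add, CharTwo.add_self_eq_zero, R.T_zero]
    exact ⟨Or.inr (Or.inr ⟨h4, r, _, h0, hsq.symm⟩), fun _ hodd => absurd (h4 ▸ hodd) (by decide)⟩

include hgen hcmem hpair

theorem Fam.isRootInvolutionSet : Cfsg.IsRootInvolutionSet R.invols where
  orderOf_eq _ hd := R.orderOf_invol hne hd
  generates := hgen _ fun p c => by
    by_cases hc : c = 0
    · rw [hc, R.T_zero]; exact one_mem _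
    · exact Subgroup.subset_closure ⟨p, c, hc, rfl⟩
  conj_mem := hcmem
  pair _ ha _ hb := (R.invol_pair hne hpair ha hb).1

theorem Fam.isThreeFour (hq : Fintype.card k = 2) : Cfsg.IsThreeFourPlusTranspositionSet R.invols :=
  ⟨R.isRootInvolutionSet hne hgen hcmem hpair, fun _ ha _ hb => (R.invol_pair hne hpair ha hb).2 hq⟩

theorem Fam.isRootInvolutionClass [Nonempty P] (hpath : ∀ p q, ∃ r, R.Linked p r ∧ R.Linked r q) :
    Cfsg.IsRootInvolutionClass R.invols := by
  refine ⟨R.isRootInvolutionSet hne hgen hcmem hpair, ?_, ?_⟩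
  · obtain ⟨p⟩ := ‹Nonempty P›
    exact ⟨_, p, 1, one_ne_zero, rfl⟩
  have link : ∀ {p q : P} {c d : k}, R.Linked p q → c ≠ 0 → d ≠ 0 → ∃ g : G, R.T q d = g * R.T p c * g⁻¹ := by
    rintro p q c d ⟨φ, -, μ, ν, hμ, hν, hu, hl⟩ hc hd
    obtain ⟨s, hs⟩ := FiniteField.isSquare_of_char_two (ringChar.eq k 2) (-(d / ν) / (c / μ))
    have hs0 : s ≠ 0 := fun h => by
      rw [h, mul_zero] at hs
      exact div_ne_zero (neg_ne_zero.2 (div_ne_zero hd hν)) (div_ne_zero hc hμ) hs
    obtain ⟨g, hg⟩ := sl2_conj_upper_lower (c := c / μ) (d := d / ν) hs0 (by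
      rw [pow_two, ← hs, div_mul_cancel₀ _ (div_ne_zero hc hμ)])
    refine ⟨φ g, ?_⟩
    have h := congrArg φ hg
    rw [map_mul, map_mul, map_inv, hu, hl, mul_div_cancel₀ _ hμ, mul_div_cancel₀ _ hν] at h
    exact h.symm
  rintro _ ⟨p, c, hc, rfl⟩ _ ⟨q, d, hd, rfl⟩
  obtain ⟨r, h1, h2⟩ := hpath p q
  obtain ⟨g, hg⟩ := link h1 hc one_ne_zero
  obtain ⟨g', hg'⟩ := link h2 one_ne_zero hd
  exact ⟨g' * g, by rw [hg', hg]; group⟩

end Cfsg.Agent.RootClass
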