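import Cfsg.Agent.Lib.RootClass.Involutions

/-!
A connected set of root involutions: the squaring operator, and members with the same odd partners.
-/

set_option autoImplicit false

namespace Cfsg.Agent.RootInvol

variable {G : Type*} [Group G] {D : Set G} (hD : Cfsg.IsRootInvolutionSet D)

/-- Conjugation by a power. -/
def pw (r : G) (n : ℕ) (x : G) : G := r ^ n * x * (r ^ n)⁻¹

theorem pw_zero (r x : G) : pw r 0 x = x := by simp [pw]

theorem pw_add (r : G) (i j : ℕ) (x : G) : pw r (i + j) x = pw r i (pw r j x) := by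
  simp only [pw, pow_add, mul_inv_rev, mul_assoc]

theorem pw_mul (r : G) (n : ℕ) (x y : G) : pw r n (x * y) = pw r n x * pw r n y := by
  simp [pw, mul_assoc]

theorem pw_orderOf (r x : G) : pw r (orderOf r) x = x := by simp [pw, pow_orderOf_eq_one]

theorem pw_period (r : G) (i : ℕ) (x : G) : pw r (i + orderOf r) x = pw r i x := by rw [pw_add, pw_orderOf]

include hD

theorem pw_mem {x : G} (hx : x ∈ D) (r : G) (n : ℕ) : pw r n x ∈ D := hD.conj_mem x hx _

theorem pw_one {g z : G} (hg : g ∈ D) (hz : z ∈ D) (x : G) : pw (z * g) 1 x = z * (g * x * g) * z := by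
  simp only [pw, pow_one, mul_inv_rev, inv_eq hD hg, inv_eq hD hz, mul_assoc]

theorem pow_mul_mem {g z : G} (hg : g ∈ D) (hz : z ∈ D) : ∀ n : ℕ, (z * g) ^ n * g ∈ D
  | 0 => by simpa using hg
  | 1 => by rw [pow_one, mul_assoc, sq hD hg, mul_one]; exact hz
  | n + 2 => by
    have h := hD.conj_mem _ (pow_mul_mem hg hz n) (z * g)
    have e : (z * g) * ((z * g) ^ n * g) * (z * g)⁻¹ = (z * g) ^ (n + 2) * g := by
      rw [mul_inv_rev, inv_eq hD hg, inv_eq hD hz, pow_succ _ (n + 1), pow_succ']
      simp only [mul_assoc, cancel hD hg, sq hD hg, mul_one]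
    rwa [e] at h

section Orbit

variable {g z u : G} (hg : g ∈ D) (hz : z ∈ D) (hu : u ∈ D) (hgu : g * u = u * g) (hzu : ¬ Odd2 z u)
include hg hz hu hgu hzu

theorem nice_one : Nice D u (z * u * z) := by
  rcases pair3 hD hz hu with h | h | h
  · rw [h, mul_assoc, sq hD hz, mul_one]; exact ⟨rfl, Or.inl rfl⟩
  · exact absurd h hzu
  · exact nice_of_four hD hu hz h.symm

theorem not_odd2_v : ¬ Odd2 g (z * u * z) := by
  intro ho
  have hv : z * u * z ∈ D := conj3 hD hu hz
  obtain ⟨hc, h⟩ := nice_one hD hg hz hu hgu hzu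
  rcases h with h | h
  · exact not_comm_of_odd2 hD hg hv ho (by rw [← h]; exact hgu)
  · exact (Tri.symm (⟨hu, hv, hc, h⟩ : Tri D u (z * u * z))).not_comm hD hg ho hgu

theorem pw_one_u : pw (z * g) 1 u = z * u * z := by
  rw [pw_one hD hg hz, hgu, mul_assoc u, sq hD hg, mul_one]

theorem nice_of_not_odd2 (n : ℕ) (hno : ¬ Odd2 u (pw (z * g) n u)) : Nice D u (pw (z * g) n u) := by
  set s := (z * g) ^ n * g with hs
  have hsD : s ∈ D := pow_mul_mem hD hg hz n
  have e : s * u * s = pw (z * g) n u := by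
    conv_lhs => arg 2; rw [← inv_eq hD hsD]
    rw [hs, pw, mul_inv_rev, inv_eq hD hg]
    calc (z * g) ^ n * g * u * (g * ((z * g) ^ n)⁻¹)
        = (z * g) ^ n * (g * u * g) * ((z * g) ^ n)⁻¹ := by simp only [mul_assoc]
      _ = _ := by rw [hgu, mul_assoc u, sq hD hg, mul_one]
  rw [← e] at hno ⊢
  rcases pair3 hD hu hsD with h | h | h
  · rw [← h, mul_assoc, sq hD hsD, mul_one]; exact ⟨rfl, Or.inl rfl⟩
  · exfalso
    refine hno ⟨fun he => not_comm_of_odd2 hD hu hsD h ?_, ?_⟩
    · conv_lhs => rw [he]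
      rw [mul_assoc, sq hD hsD, mul_one]
    · rw [show u * (s * u * s) = (u * s) ^ 2 by simp only [pow_two, mul_assoc]]
      rw [(Nat.coprime_two_right.2 h.2).orderOf_pow]
      exact h.2
  · exact nice_of_four hD hu hsD h

theorem nice_all : ∀ n, Nice D u (pw (z * g) n u) := by
  set r := z * g with hr
  intro n
  induction n using Nat.strong_induction_on with
  | _ n ih =>
  refine nice_of_not_odd2 hD hg hz hu hgu hzu n fun hodd => ?_
  rw [← hr] at hodd
  have hv : z * u * z ∈ D := conj3 hD hu hz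
  have h1 : pw r 1 u = z * u * z := pw_one_u hD hg hz hu hgu hzu
  match n with
  | 0 => rw [pw_zero] at hodd; exact hodd.1 rfl
  | 1 => rw [h1] at hodd; exact (nice_one hD hg hz hu hgu hzu).not_odd2 hD hu hv hodd
  | 2 =>
    have h2 : pw r 2 u = z * (g * (z * u * z) * g) * z := by
      rw [show 2 = 1 + 1 from rfl, pw_add, h1, hr, pw_one hD hg hz]
    rw [h2] at hodd
    have hu' : u = z * (z * u * z) * z := by simp only [mul_assoc, cancel hD hz, sq hD hz, mul_one]
    conv at hodd => arg 1; rw [hu']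
    rw [odd2_conj3 hD hz] at hodd
    rcases pair3 hD hv hg with h | h | h
    · exact hodd.1 (by rw [← h, mul_assoc (z * u * z) g g, sq hD hg, mul_one])
    · exact not_odd2_v hD hg hz hu hgu hzu h.symm
    · exact (nice_of_four hD hv hg h).not_odd2 hD hv (conj3 hD hv hg) hodd
  | (j + 3) =>
    set m := j + 2 with hm
    have e : j + 3 = 1 + m := by omega
    rw [e] at hodd
    have a1 := ih 1 (by omega)
    have am1 := ih (j + 1) (by omega)
    have am := ih m (by omega)
    have hmem := fun i => pw_mem hD hu r i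
    have Y' : Nice D (pw r 1 u) (pw r (1 + m) u) := by rw [pw_add r 1 m]; exact am.conj hD _
    have K' : Nice D (pw r 1 u) (pw r m u) := by
      rw [show m = 1 + (j + 1) by omega, pw_add]; exact am1.conj hD _
    have Z' : Nice D (pw r m u) (pw r (1 + m) u) := by
      rw [add_comm 1 m, pw_add r m 1]; exact a1.conj hD _
    rcases am.2 with hX | hX
    · rcases Y'.2 with hY | hY
      · rw [← hY] at hodd; exact a1.not_odd2 hD hu (hmem _) hodd
      · have : pw r (1 + m) u = pw r 1 u := by rw [pw_add, ← hX]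
        rw [this, sq hD (hmem 1)] at hY
        exact ne_one hD hY rfl
    rcases K'.2 with hk | hk
    · have : pw r (1 + m) u = pw r 2 u := by rw [pw_add, ← hk, ← pw_add]
      rw [this] at hodd; exact (ih 2 (by omega)).not_odd2 hD hu (hmem _) hodd
    rcases Y'.2 with hY | hY
    · rw [← hY] at hodd; exact a1.not_odd2 hD hu (hmem _) hodd
    set k := pw r m u * pw r 1 u with hk'
    have hkD : k ∈ D := by rw [hk', ← K'.1]; exact hk
    have cku : Commute u k := (show Commute u (pw r m u) from am.1).mul_right a1.1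
    have ck : Commute k (pw r (1 + m) u) := (show Commute (pw r m u) _ from Z'.1).mul_left Y'.1
    refine no_prod hD hodd.2 (fun h => hodd.1 ((mul_eq_one_iff_eq_inv.1 h).trans (inv_eq hD (hmem _))))
      (sq hD hkD) (ne_one hD hkD) (cku.mul_left ck.symm) hX hY ?_
    calc u * pw r m u * (pw r 1 u * pw r (1 + m) u)
        = u * (k * pw r (1 + m) u) := by simp only [hk', mul_assoc]
      _ = _ := by rw [ck.eq, mul_assoc]

theorem comm_pw (i j : ℕ) : Commute (pw (z * g) i u) (pw (z * g) j u) := by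
  rcases le_total i j with h | h
  · obtain ⟨d, rfl⟩ := Nat.exists_eq_add_of_le h
    rw [pw_add]; exact ((nice_all hD hg hz hu hgu hzu d).conj hD _).1
  · obtain ⟨d, rfl⟩ := Nat.exists_eq_add_of_le h
    rw [pw_add]; exact ((nice_all hD hg hz hu hgu hzu d).conj hD _).1.symm

end Orbit

/-- The members completing `g` to a triangle with product with `z` of order four. -/
def lineSet (_hD : Cfsg.IsRootInvolutionSet D) (g z : G) : Set G := {y | Tri D g y ∧ Four z y}

section Operator

variable [Finite G] {g z : G} (hz : z ∈ D) (h : Odd2 z g)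
include hz h

omit [Finite G] in
theorem sq_mem_lineSet {u : G} (hu : u ∈ lineSet hD g z) : (g * (z * u * z)) ^ 2 ∈ lineSet hD g z := by
  obtain ⟨tgu, hf⟩ := hu
  have hg := tgu.left
  have hud := tgu.right
  have hgu := tgu.comm
  have hv : z * u * z ∈ D := conj3 hD hud hz
  have hzu : ¬ Odd2 z u := not_odd2_of_four hf
  have f4 : Four g (z * u * z) := by
    refine four_of_not hD hg hv (fun hc => ?_) (not_odd2_v hD hg hz hud hgu hzu)
    obtain ⟨-, -, tzh, -⟩ := four_tri hD hz hud hf
    refine tzh.not_comm hD hg h.symm ?_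
    have e : (z * u) ^ 2 = z * u * z * u := by rw [pow_two, mul_assoc (z * u)]
    rw [e]
    exact ((show Commute g (z * u * z) from hc).mul_right hgu).eq
  obtain ⟨-, -, tgp, -⟩ := four_tri hD hg hv f4
  refine ⟨tgp, four_of_not hD hz tgp.right (tgp.not_comm hD hz h) fun ho => ?_⟩
  set v := z * u * z with hv'
  set r := z * g with hr
  set w := g * v * g with hw
  have hp : (g * v) ^ 2 = w * v := by simp only [hw, pow_two, mul_assoc]
  have cm := fun i j => comm_pw hD hg hz hud hgu hzu i j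
  have h1 : pw r 1 u = v := pw_one_u hD hg hz hud hgu hzu
  have hzv : z * v * z = u := by simp only [hv', mul_assoc, cancel hD hz, sq hD hz, mul_one]
  have h2 : pw r 2 u = z * w * z := by rw [show 2 = 1 + 1 from rfl, pw_add, h1, hr, pw_one hD hg hz]
  have hw0 : pw r 1 w = u := by
    have : g * w * g = v := by simp only [hw, mul_assoc, cancel hD hg, sq hD hg, mul_one]
    rw [hr, pw_one hD hg hz, this, hzv]
  have hq : z * (g * v) ^ 2 * z = pw r 2 u * u := by
    rw [hp, h2]; simp only [mul_assoc, cancel hD hz]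
    congr 1; congr 1
    rw [← hzv]; simp only [mul_assoc, cancel hD hz]
  have inj1 : ∀ a b : G, Commute (pw r 1 a) (pw r 1 b) → Commute a b := by
    intro a b hab
    have := hab.eq
    rw [← pw_mul, ← pw_mul] at this
    show a * b = b * a
    simpa [pw] using this
  have c1 : Commute w u := inj1 _ _ (by rw [hw0]; simpa [pw_zero] using cm 0 1)
  have c2 : Commute w (pw r 2 u) := inj1 _ _ (by rw [hw0, ← pw_add]; simpa [pw_zero] using cm 0 3)
  have c3 : Commute v u := by rw [← h1]; simpa [pw_zero] using cm 1 0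
  have c4 : Commute v (pw r 2 u) := by rw [← h1]; exact cm 1 2
  have hcq : Commute ((g * v) ^ 2) (z * (g * v) ^ 2 * z) := by
    rw [hq, hp]
    exact (c2.mul_right c1).mul_left (c4.mul_right c3)
  have hs := comm_sq hD tgp.right (conj3 hD tgp.right hz) hcq.eq
  have e : (g * v) ^ 2 * (z * (g * v) ^ 2 * z) = ((g * v) ^ 2 * z) ^ 2 := by simp only [pow_two, mul_assoc]
  rw [e, ← pow_mul] at hs
  exact ho.1.symm ((mul_eq_one_iff_eq_inv.1 (eq_one_of_odd_of_two_pow ho.symm.2 2 hs)).trans (inv_eq hD hz))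

theorem sq_injOn : Set.InjOn (fun u => (g * (z * u * z)) ^ 2) (lineSet hD g z) := by
  intro a haS b hbS hab
  set r := z * g with hr
  have hg := haS.1.left
  obtain ⟨j, hj⟩ : Odd (orderOf r) := h.2
  set m := orderOf r with hm
  have key : ∀ u ∈ lineSet hD g z,
      (∀ k, pw r k ((g * (z * u * z)) ^ 2) = pw r k (g * (z * u * z) * g) * pw r (k + 1) u) ∧
      (∀ k, pw r (k + 1) (g * (z * u * z) * g) = pw r k u) ∧
      (∀ i k, Commute (pw r i u) (pw r k u)) ∧ (r * u) ^ m = 1 := by
    intro u hu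
    obtain ⟨tgu, hf⟩ := hu
    have hud := tgu.right
    have hzu : ¬ Odd2 z u := not_odd2_of_four hf
    have h1 : pw r 1 u = z * u * z := pw_one_u hD hg hz hud tgu.comm hzu
    have hw0 : pw r 1 (g * (z * u * z) * g) = u := by
      rw [hr, pw_one hD hg hz]; simp only [mul_assoc, cancel hD hg, sq hD hg, mul_one, cancel hD hz, sq hD hz]
    have cm : ∀ i k, Commute (pw r i u) (pw r k u) := fun i k => comm_pw hD hg hz hud tgu.comm hzu i k
    refine ⟨fun k => ?_, fun k => by rw [pw_add, hw0], cm, ?_⟩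
    · rw [pw_add, ← pw_mul, h1]; congr 1; simp only [pow_two, mul_assoc]
    have hodd : Odd (orderOf (r * u)) := by
      rw [hr, mul_assoc]
      rcases tgu.key hD hz h with h' | h'
      · exact absurd h' hzu
      · exact h'.2
    have P : ∀ N, (∀ i, Commute (pw r i u) ((r * u) ^ N * (r ^ N)⁻¹)) ∧ ((r * u) ^ N * (r ^ N)⁻¹) ^ 2 = 1 := by
      intro N
      induction N with
      | zero => simp
      | succ N ih =>
        have e : (r * u) ^ (N + 1) * (r ^ (N + 1))⁻¹ = (r * u) ^ N * (r ^ N)⁻¹ * pw r (N + 1) u := by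
          simp [pw, pow_succ, mul_assoc]
        rw [e]
        refine ⟨fun i => (ih.1 i).mul_right (cm i _), ?_⟩
        rw [(ih.1 _).symm.mul_pow, ih.2, one_mul, pow_two, sq hD (pw_mem hD hud r _)]
    have h2 := (P m).2
    rw [pow_orderOf_eq_one, inv_one, mul_one] at h2
    exact eq_one_of_odd_of_two_pow (hodd.of_dvd_nat (orderOf_pow_dvd _)) 1 (by simpa using h2)
  obtain ⟨ka1, ka2, ca, pa⟩ := key a haS
  obtain ⟨kb1, kb2, cb, pb⟩ := key b hbS
  have hab' : ∀ k, pw r k a * pw r (k + 2) a = pw r k b * pw r (k + 2) b := by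
    intro k
    have : pw r (k + 1) ((g * (z * a * z)) ^ 2) = pw r (k + 1) ((g * (z * b * z)) ^ 2) := congrArg (pw r (k + 1)) hab
    rwa [ka1, kb1, ka2, kb2] at this
  have two : ∀ u ∈ lineSet hD g z, ∀ i k, pw r i u * pw r k u * (pw r k u * pw r (k + 2) u) = pw r i u * pw r (k + 2) u :=
    fun u hu i k => by rw [mul_assoc, cancel hD (pw_mem hD hu.1.right r k)]
  have hev : ∀ l, a * pw r (2 * l) a = b * pw r (2 * l) b := by
    intro l
    induction l with
    | zero => simp [pw_zero, sq hD haS.1.right, sq hD hbS.1.right]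
    | succ l ih =>
      have ea := two a haS 0 (2 * l)
      have eb := two b hbS 0 (2 * l)
      rw [pw_zero] at ea eb
      rw [show 2 * (l + 1) = 2 * l + 2 by ring, ← ea, ← eb, ih, hab']
  have hall : ∀ k, a * pw r k a = b * pw r k b := by
    intro k
    rcases Nat.even_or_odd' k with ⟨l, rfl | rfl⟩
    · exact hev l
    · have := hev (l + j + 1)
      rw [show 2 * (l + j + 1) = (2 * l + 1) + m by omega, hm, pw_period, pw_period] at this
      exact this
  have hQ : ∀ N, a ^ N * ((r * a) ^ N * (r ^ N)⁻¹) = b ^ N * ((r * b) ^ N * (r ^ N)⁻¹) ∧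
      Commute a ((r * a) ^ N * (r ^ N)⁻¹) ∧ Commute b ((r * b) ^ N * (r ^ N)⁻¹) := by
    intro N
    induction N with
    | zero => simp
    | succ N ih =>
      have e : ∀ u, (r * u) ^ (N + 1) * (r ^ (N + 1))⁻¹ = (r * u) ^ N * (r ^ N)⁻¹ * pw r (N + 1) u := fun u => by
        simp [pw, pow_succ, mul_assoc]
      have st : ∀ u P X : G, Commute u P → u ^ (N + 1) * (P * X) = u ^ N * P * (u * X) := fun u P X hc => by
        rw [pow_succ]; simp only [mul_assoc]; rw [← mul_assoc u P, hc.eq, mul_assoc]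
      refine ⟨?_, ?_, ?_⟩
      · rw [e, e, st _ _ _ ih.2.1, st _ _ _ ih.2.2, ih.1, hall]
      · rw [e]; exact ih.2.1.mul_right (by simpa [pw_zero] using ca 0 (N + 1))
      · rw [e]; exact ih.2.2.mul_right (by simpa [pw_zero] using cb 0 (N + 1))
  have := (hQ m).1
  have hmo : Odd m := ⟨j, hj⟩
  rwa [pa, pb, hm, pow_orderOf_eq_one, inv_one, mul_one, mul_one, mul_one, ← hm,
    pow_odd_of_sq (sq hD haS.1.right) hmo, pow_odd_of_sq (sq hD hbS.1.right) hmo] at this

theorem exists_sqrt {u : G} (hu : u ∈ lineSet hD g z) :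
    ∃ y ∈ lineSet hD g z, (g * (z * y * z)) ^ 2 = u := by
  let f : ↥(lineSet hD g z) → ↥(lineSet hD g z) := fun x => ⟨_, sq_mem_lineSet hD hz h x.2⟩
  have hf : Function.Injective f := fun x y e => Subtype.ext (sq_injOn hD hz h x.2 y.2 (Subtype.ext_iff.1 e))
  obtain ⟨y, hy⟩ := Finite.injective_iff_surjective.1 hf ⟨u, hu⟩
  exact ⟨y, y.2, Subtype.ext_iff.1 hy⟩

end Operator

end Cfsg.Agent.RootInvol
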