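import Cfsg.Agent.Lib.RootClass.InvolClass

/-!
A connected set of root involutions: members with the same odd partners have the same commuting members.
-/

set_option autoImplicit false

namespace Cfsg.Agent.RootInvol

variable {G : Type*} [Group G] {D : Set G}

theorem mem_A {d e : G} : e ∈ Cfsg.oddPartners D d ↔ e ∈ D ∧ Odd2 d e :=
  ⟨fun h => ⟨h.1, h.2.1.symm, h.2.2⟩, fun h => ⟨h.1, h.2.1.symm, h.2.2⟩⟩

variable (hD : Cfsg.IsRootInvolutionSet D)
include hD

theorem A_conj (g d : G) : Cfsg.oddPartners D (g * d * g⁻¹) = (fun x => g * x * g⁻¹) '' Cfsg.oddPartners D d := by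
  ext e
  simp only [Set.mem_image, mem_A]
  constructor
  · intro ⟨he, ho⟩
    refine ⟨g⁻¹ * e * g, ⟨by simpa using hD.conj_mem e he g⁻¹, ?_⟩, by simp [mul_assoc]⟩
    exact (odd2_conj_iff g d (g⁻¹ * e * g)).1 (by simpa [mul_assoc] using ho)
  · rintro ⟨x, ⟨hx, ho⟩, rfl⟩
    exact ⟨hD.conj_mem x hx g, (odd2_conj_iff g d x).2 ho⟩

theorem A_conj3 {x d : G} (hx : x ∈ D) :
    Cfsg.oddPartners D (x * d * x) = (fun y => x * y * x) '' Cfsg.oddPartners D d := by
  have := A_conj hD x d; rwa [inv_eq hD hx] at this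

theorem A_self_conj {x d : G} (hx : x ∈ D) (hc : x * d = d * x) :
    (fun y => x * y * x) '' Cfsg.oddPartners D d = Cfsg.oddPartners D d := by
  rw [← A_conj3 hD hx, hc, mul_assoc, sq hD hx, mul_one]

theorem mem_A_union {a b z : G} (t : Tri D a b) (hz : z ∈ Cfsg.oddPartners D b) :
    z ∈ Cfsg.oddPartners D a ∨ z ∈ Cfsg.oddPartners D (a * b) := by
  obtain ⟨hzD, ho⟩ := mem_A.1 hz
  exact (t.key' hD hzD ho.symm).imp (fun h => mem_A.2 ⟨hzD, h.symm⟩) fun h => mem_A.2 ⟨hzD, h.symm⟩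

variable [Finite G] (hc : Cfsg.IsConnectedSet (Cfsg.OddAdj D) D)
include hc

theorem exists_conj {a b : G} (ha : a ∈ D) (hb : b ∈ D) : ∃ g : G, b = g * a * g⁻¹ := by
  have h := hc a ha b hb
  clear hb
  induction h with
  | refl => exact ⟨1, by simp⟩
  | @tail x y _ hxy ih =>
    obtain ⟨g, rfl⟩ := ih
    obtain ⟨hxD, hy, -, ho⟩ := hxy
    obtain ⟨d, -, hd⟩ := Invol.conj_of_odd (hD.orderOf_eq _ hxD) (hD.orderOf_eq _ hy) ho
    exact ⟨d * g, by rw [← hd]; simp [mul_assoc]⟩

theorem A_eq_of_subset {a b : G} (ha : a ∈ D) (hb : b ∈ D)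
    (h : Cfsg.oddPartners D a ⊆ Cfsg.oddPartners D b) : Cfsg.oddPartners D a = Cfsg.oddPartners D b := by
  obtain ⟨g, rfl⟩ := exists_conj hD hc ha hb
  refine Set.eq_of_subset_of_ncard_le h ?_ (Set.toFinite _)
  rw [A_conj hD]
  exact Set.ncard_image_le (Set.toFinite _)

/-- Members with the same odd partners commute. -/
theorem comm_of_A_eq {d e : G} (hd : d ∈ D) (he : e ∈ D)
    (h : Cfsg.oddPartners D d = Cfsg.oddPartners D e) : d * e = e * d := by
  set A := Cfsg.oddPartners D d with hA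
  set K := {k | k ∈ D ∧ Cfsg.oddPartners D k = A} with hK
  have hno : ∀ s ∈ K, ∀ t ∈ K, ¬ Odd2 s t := by
    intro s hs t ht ho
    have hm : t ∈ A := hs.2 ▸ mem_A.2 ⟨ht.1, ho⟩
    rw [← ht.2] at hm
    exact (mem_A.1 hm).2.1 rfl
  have hinv : ∀ s ∈ K, ∀ t ∈ K, t * s * t ∈ K := by
    intro s hs t ht
    refine ⟨conj3 hD hs.1 ht.1, ?_⟩
    rw [A_conj3 hD ht.1, hs.2, ← ht.2]
    exact A_self_conj hD ht.1 rfl
  have hfour : ∀ s ∈ K, ∀ t ∈ K, Four s t → (s * t) ^ 2 ∈ K := by
    intro s hs t ht h4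
    obtain ⟨-, -, tf, e2⟩ := four_tri hD hs.1 ht.1 h4
    refine ⟨tf.right, ?_⟩
    have := A_eq_of_subset hD hc tf.right hs.1 fun z hz => by
      rcases mem_A_union hD tf hz with hh | hh
      · exact hh
      · rwa [e2, (hinv s hs t ht).2, ← hs.2] at hh
    exact this.trans hs.2
  have hp := isPGroup_closure hD (fun s hs => hs.1) hinv hno
  haveI : Fact (Nat.Prime 2) := ⟨Nat.prime_two⟩
  obtain ⟨N, hN⟩ := (Subgroup.isNilpotent_iff_lowerCentralSeries (S := Subgroup.closure K)).1 hp.isNilpotent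
  set J := {n | ∃ k ∈ K, k ∈ (Subgroup.closure K).lowerCentralSeries n} with hJ
  have hdK : d ∈ K := ⟨hd, rfl⟩
  have hJb : ∀ n ∈ J, n < N := by
    rintro n ⟨k, hk, hkn⟩
    by_contra hle
    have := Subgroup.lowerCentralSeries_antitone _ (not_lt.1 hle) hkn
    rw [hN, Subgroup.mem_bot] at this
    exact ne_one hD hk.1 this
  obtain ⟨n, ⟨k, hk, hkn⟩, hmax⟩ := Set.exists_max_image J id ((Set.finite_lt_nat N).subset hJb)
    ⟨0, d, hdK, Subgroup.subset_closure hdK⟩
  have hkc : ∀ t ∈ K, k * t = t * k := by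
    intro t ht
    by_contra hne
    have h4 := four_of_not hD hk.1 ht.1 hne (hno k hk t ht)
    have hmem : (k * t) ^ 2 ∈ (Subgroup.closure K).lowerCentralSeries (n + 1) := by
      rw [Subgroup.lowerCentralSeries_succ]
      have := Subgroup.commutator_mem_commutator hkn (Subgroup.subset_closure ht : t ∈ Subgroup.closure K)
      rwa [commutatorElement_def, inv_eq hD hk.1, inv_eq hD ht.1, mul_assoc, ← pow_two] at this
    have := hmax (n + 1) ⟨_, hfour k hk t ht h4, hmem⟩
    simp only [id] at this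
    omega
  obtain ⟨g, hg⟩ := exists_conj hD hc hk.1 hd
  have hAg : (fun x => g * x * g⁻¹) '' A = A := by
    conv_lhs => rw [← hk.2]
    rw [← A_conj hD, ← hg]
  have hbe : g⁻¹ * e * g ∈ K := by
    refine ⟨by simpa using hD.conj_mem e he g⁻¹, ?_⟩
    refine ((MulAut.conj g).injective.image_injective) ?_
    show (fun x => g * x * g⁻¹) '' _ = (fun x => g * x * g⁻¹) '' _
    rw [← A_conj hD, hAg, show g * (g⁻¹ * e * g) * g⁻¹ = e by simp [mul_assoc]]
    exact h.symm
  have := congrArg (fun x => g * x * g⁻¹) (hkc _ hbe)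
  rw [hg]
  simpa [mul_assoc] using this

/-- Members with the same odd partners have the same commuting members. -/
theorem comm_of_A_eq' {d e u : G} (hd : d ∈ D) (he : e ∈ D) (hu : u ∈ D)
    (h : Cfsg.oddPartners D d = Cfsg.oddPartners D e) (hud : u * d = d * u) : u * e = e * u := by
  by_contra hne
  have hoe : ¬ Odd2 e u := fun ho => by
    have := (mem_A.1 (h.symm ▸ mem_A.2 ⟨hu, ho⟩ : u ∈ Cfsg.oddPartners D d)).2
    exact not_comm_of_odd2 hD hd hu this hud.symm
  have h4 := four_of_not hD he hu (fun hh => hne hh.symm) hoe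
  obtain ⟨-, -, teg, e2⟩ := four_tri hD he hu h4
  set g := (e * u) ^ 2 with hg'
  have hgD := teg.right
  have hueu : Cfsg.oddPartners D (u * e * u) = Cfsg.oddPartners D e := by
    rw [A_conj3 hD hu, ← h, A_self_conj hD hu hud]
  have hAg : Cfsg.oddPartners D g = Cfsg.oddPartners D e :=
    A_eq_of_subset hD hc hgD he fun z hz => by
      rcases mem_A_union hD teg hz with hh | hh
      · exact hh
      · rwa [e2, hueu] at hh
  have hgu : g * u = u * g := by
    have := four_comm_sq hD hu he h4.symm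
    rw [four_sq_eq hD he hu h4] at this
    exact this.symm
  by_cases hAu : Cfsg.oddPartners D u = Cfsg.oddPartners D e
  · exact hne (comm_of_A_eq hD hc hu he hAu)
  obtain ⟨z, hze, hzu⟩ : ∃ z ∈ Cfsg.oddPartners D e, z ∉ Cfsg.oddPartners D u := by
    by_contra hno
    push Not at hno
    exact hAu (A_eq_of_subset hD hc he hu hno).symm
  have hgz : Odd2 z g := (mem_A.1 (hAg.symm ▸ hze)).2.symm
  have hzD := (mem_A.1 hze).1
  have tgu : Tri D g u := ⟨hgD, hu, hgu, by
    have e3 : g * u = e * u * e := by simp only [hg', pow_two, mul_assoc, sq hD hu, mul_one]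
    rw [e3]; exact conj3 hD hu he⟩
  have hzu4 : Four z u := four_of_not hD hzD hu (tgu.not_comm hD hzD hgz) fun ho => hzu (mem_A.2 ⟨hzD, ho.symm⟩)
  obtain ⟨y, hy, hyu⟩ := exists_sqrt hD hzD hgz (show u ∈ lineSet hD g z from ⟨tgu, hzu4⟩)
  have hfy := sq_mem_lineSet hD hzD hgz hy
  set v := z * y * z with hv'
  have hvD : v ∈ D := conj3 hD hy.1.right hzD
  have hgv : Four g v := by
    refine four_of_not hD hgD hvD (fun hh => ?_) fun ho => ?_
    · exact ne_one hD hfy.1.right (comm_sq hD hgD hvD hh)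
    · have h1 := comm_sq hD hfy.1.right hfy.1.right rfl
      have h2 : (g * v) ^ (2 ^ 2) = 1 := by
        rw [show 2 ^ 2 = 2 * 2 from rfl, pow_mul, pow_two, sq hD hfy.1.right]
      exact ho.1 ((mul_eq_one_iff_eq_inv.1 (eq_one_of_odd_of_two_pow ho.2 2 h2)).trans (inv_eq hD hvD))
  set w := v * g * v with hw'
  have hwD : w ∈ D := conj3 hD hgD hvD
  have hgw : g * w = w * g := (four_tri hD hgD hvD hgv).1.comm
  have hAw : Cfsg.oddPartners D w = (fun x => v * x * v) '' Cfsg.oddPartners D e := by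
    rw [hw', A_conj3 hD hvD, hAg]
  have hnev : ¬ Odd2 e v := fun ho => not_odd2_of_four hgv (mem_A.1 (hAg.symm ▸ mem_A.2 ⟨hvD, ho⟩)).2
  have heev : e * (v * e * v) = v * e * v * e := by
    rcases pair3 hD he hvD with hh | hh | hh
    · rw [← hh, mul_assoc e v v, sq hD hvD, mul_one]
    · exact absurd hh hnev
    · exact (four_tri hD he hvD hh).1.comm
  have hAe' : Cfsg.oddPartners D (v * e * v) = Cfsg.oddPartners D w := by rw [A_conj3 hD hvD, hAw]
  have hnew : ¬ Odd2 e w := fun ho => by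
    have := (mem_A.1 (hAe'.symm ▸ mem_A.2 ⟨he, ho.symm⟩ : e ∈ Cfsg.oddPartners D (v * e * v))).2
    exact not_comm_of_odd2 hD (conj3 hD he hvD) he this heev.symm
  have hcew : e * w = w * e := by
    by_contra hh
    have f4 := four_of_not hD he hwD hh hnew
    obtain ⟨-, -, tef, e3⟩ := four_tri hD he hwD f4
    obtain ⟨-, -, twf, e4⟩ := four_tri hD hwD he f4.symm
    rw [four_sq_eq hD he hwD f4] at twf e4
    have h1 : Cfsg.oddPartners D ((e * w) ^ 2) = Cfsg.oddPartners D e := by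
      refine A_eq_of_subset hD hc tef.right he fun x hx => ?_
      rcases mem_A_union hD tef hx with hm | hm
      · exact hm
      · rwa [e3, A_conj3 hD hwD, ← hAg, A_self_conj hD hwD hgw.symm, hAg] at hm
    have h2 : Cfsg.oddPartners D ((e * w) ^ 2) = Cfsg.oddPartners D w := by
      refine A_eq_of_subset hD hc tef.right hwD fun x hx => ?_
      rcases mem_A_union hD twf hx with hm | hm
      · exact hm
      · rwa [e4, A_conj3 hD he, ← hAe', A_self_conj hD he heev, hAe'] at hm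
    exact hh (comm_of_A_eq hD hc he hwD (h1.symm.trans h2))
  have hu' : u = g * w := by
    rw [← hyu]; simp only [hw', pow_two, mul_assoc]
  apply hne
  rw [hu']
  exact ((show Commute e g from teg.comm).mul_right hcew).eq.symm

/-- Equal commuting members force equal odd partners. -/
theorem A_eq_of_comm {d e : G} (hd : d ∈ D) (he : e ∈ D)
    (h : Cfsg.commutingMembers D d = Cfsg.commutingMembers D e) :
    Cfsg.oddPartners D d = Cfsg.oddPartners D e := by
  refine A_eq_of_subset hD hc hd he fun z hz => ?_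
  obtain ⟨hzD, hdz⟩ := mem_A.1 hz
  refine mem_A.2 ⟨hzD, ?_⟩
  by_contra hno
  have hc1 : z * e ≠ e * z := fun hh => by
    have : z ∈ Cfsg.commutingMembers D d := h.symm ▸ (⟨hzD, hh⟩ : z ∈ Cfsg.commutingMembers D e)
    exact not_comm_of_odd2 hD hd hzD hdz this.2.symm
  have h4 := four_of_not hD hzD he hc1 fun ho => hno ho.symm
  obtain ⟨-, -, tzg, -⟩ := four_tri hD hzD he h4
  have hge : (z * e) ^ 2 ∈ Cfsg.commutingMembers D e := by
    refine ⟨tzg.right, ?_⟩
    have := four_comm_sq hD he hzD h4.symm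
    rw [four_sq_eq hD hzD he h4] at this
    exact this.symm
  rw [← h] at hge
  exact tzg.not_comm hD hd hdz hge.2.symm

theorem comm_iff_A {d e : G} (hd : d ∈ D) (he : e ∈ D) :
    Cfsg.commutingMembers D d = Cfsg.commutingMembers D e ↔ Cfsg.oddPartners D d = Cfsg.oddPartners D e := by
  refine ⟨A_eq_of_comm hD hc hd he, fun h => ?_⟩
  ext u
  exact ⟨fun hu => ⟨hu.1, comm_of_A_eq' hD hc hd he hu.1 h hu.2⟩,
    fun hu => ⟨hu.1, comm_of_A_eq' hD hc he hd hu.1 h.symm hu.2⟩⟩

/-- For a triangle with different classes, `b` is a square of `a v`. -/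
theorem exists_pre {a b : G} (t : Tri D a b) (hne : Cfsg.commutingMembers D a ≠ Cfsg.commutingMembers D b) :
    ∃ v ∈ D, Four a v ∧ (a * v) ^ 2 = b := by
  have hA : Cfsg.oddPartners D a ≠ Cfsg.oddPartners D b := fun h => hne ((comm_iff_A hD hc t.left t.right).2 h)
  obtain ⟨z, hza, hzb⟩ : ∃ z ∈ Cfsg.oddPartners D a, z ∉ Cfsg.oddPartners D b := by
    by_contra hno
    push Not at hno
    exact hA (A_eq_of_subset hD hc t.left t.right hno)
  obtain ⟨hzD, hoa⟩ := mem_A.1 hza
  have h4 : Four z b := four_of_not hD hzD t.right (t.not_comm hD hzD hoa.symm) fun ho => hzb (mem_A.2 ⟨hzD, ho.symm⟩)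
  obtain ⟨y, hy, hyb⟩ := exists_sqrt hD hzD hoa.symm (show b ∈ lineSet hD a z from ⟨t, h4⟩)
  have hvD : z * y * z ∈ D := conj3 hD hy.1.right hzD
  refine ⟨_, hvD, four_of_not hD t.left hvD (fun hh => ne_one hD t.right ?_) fun ho => ?_, hyb⟩
  · rw [← hyb]; exact comm_sq hD t.left hvD hh
  · have h2 : (a * (z * y * z)) ^ (2 ^ 2) = 1 := by
      rw [show 2 ^ 2 = 2 * 2 from rfl, pow_mul, hyb, pow_two, sq hD t.right]
    exact ho.1 ((mul_eq_one_iff_eq_inv.1 (eq_one_of_odd_of_two_pow ho.2 2 h2)).trans (inv_eq hD hvD))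

end Cfsg.Agent.RootInvol
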