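import Mathlib
import Cfsg.Prelude.Def_RootSubgroups
import Cfsg.Prelude.Def_Solvable
import Cfsg.Agent.Lib.Involutions.Dihedral
import Cfsg.Agent.Lib.Involutions.BaerSuzuki
import Cfsg.Agent.Lib.Transfer.Basic

/-!
Sets of root involutions: triangles, components of the odd-product graph, and the squaring operator on a line.
-/

set_option autoImplicit false

namespace Cfsg.Agent.RootInvol

variable {G : Type*} [Group G]

/-- Different elements with product of odd order. -/
def Odd2 (a b : G) : Prop := a ≠ b ∧ Odd (orderOf (a * b))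

/-- Product of order four. -/
def Four (a b : G) : Prop := orderOf (a * b) = 4

/-- Commuting members with product a member. -/
structure Tri (D : Set G) (a b : G) : Prop where
  left : a ∈ D
  right : b ∈ D
  comm : a * b = b * a
  mul_mem : a * b ∈ D

theorem orderOf_mul_swap (a b : G) : orderOf (b * a) = orderOf (a * b) := by
  rw [← Invol.order_conj b (a * b)]; simp [mul_assoc]

theorem orderOf_mul_conj (g a b : G) : orderOf (g * a * g⁻¹ * (g * b * g⁻¹)) = orderOf (a * b) := by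
  rw [← Invol.order_conj g (a * b)]; simp [mul_assoc]

theorem Odd2.symm {a b : G} (h : Odd2 a b) : Odd2 b a := ⟨h.1.symm, by rw [orderOf_mul_swap]; exact h.2⟩

theorem Four.symm {a b : G} (h : Four a b) : Four b a := by
  unfold Four at h ⊢; rwa [orderOf_mul_swap]

theorem odd2_conj_iff (g a b : G) : Odd2 (g * a * g⁻¹) (g * b * g⁻¹) ↔ Odd2 a b := by
  unfold Odd2; rw [orderOf_mul_conj]; simp

theorem four_conj_iff (g a b : G) : Four (g * a * g⁻¹) (g * b * g⁻¹) ↔ Four a b := by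
  unfold Four; rw [orderOf_mul_conj]

theorem eq_one_of_odd_of_two_pow {q : G} (h : Odd (orderOf q)) (k : ℕ) (hk : q ^ (2 ^ k) = 1) : q = 1 := by
  obtain ⟨i, -, hi⟩ := (Nat.dvd_prime_pow Nat.prime_two).1 (orderOf_dvd_of_pow_eq_one hk)
  rcases Nat.eq_zero_or_pos i with h0 | h0
  · rw [h0, pow_zero] at hi; exact orderOf_eq_one_iff.1 hi
  · exact absurd (hi ▸ h) (by simp [Nat.not_odd_iff_even, Nat.even_pow, h0.ne'])

theorem pow_odd_of_sq {k : G} (h : k * k = 1) {n : ℕ} (hn : Odd n) : k ^ n = k := by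
  obtain ⟨j, rfl⟩ := hn
  rw [pow_succ, pow_mul, pow_two, h, one_pow, one_mul]

/-- A member of the odd-order graph with the given members. -/
def Nice (D : Set G) (x y : G) : Prop := x * y = y * x ∧ (x = y ∨ x * y ∈ D)

variable {D : Set G}

theorem Nice.symm {x y : G} (h : Nice D x y) : Nice D y x :=
  ⟨h.1.symm, h.2.imp Eq.symm fun h' => h.1 ▸ h'⟩

variable (hD : Cfsg.IsRootInvolutionSet D)
include hD

theorem Nice.conj {x y : G} (h : Nice D x y) (g : G) : Nice D (g * x * g⁻¹) (g * y * g⁻¹) := by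
  have e : ∀ a b : G, g * a * g⁻¹ * (g * b * g⁻¹) = g * (a * b) * g⁻¹ := fun a b => by simp [mul_assoc]
  refine ⟨by rw [e, e, h.1], h.2.imp (fun hh => by rw [hh]) fun hh => ?_⟩
  rw [e]; exact hD.conj_mem _ hh g

theorem sq {a : G} (ha : a ∈ D) : a * a = 1 := Invol.mul_self (hD.orderOf_eq a ha)

theorem inv_eq {a : G} (ha : a ∈ D) : a⁻¹ = a := Invol.inv_self (hD.orderOf_eq a ha)

theorem cancel {a : G} (ha : a ∈ D) (x : G) : a * (a * x) = x := by rw [← mul_assoc, sq hD ha, one_mul]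

theorem ne_one {a : G} (ha : a ∈ D) : a ≠ 1 := Invol.ne_one (hD.orderOf_eq a ha)

theorem conj3 {a x : G} (ha : a ∈ D) (hx : x ∈ D) : x * a * x ∈ D := by
  have := hD.conj_mem a ha x; rwa [inv_eq hD hx] at this

theorem odd2_conj3 {x a b : G} (hx : x ∈ D) : Odd2 (x * a * x) (x * b * x) ↔ Odd2 a b := by
  have := odd2_conj_iff x a b; rwa [inv_eq hD hx] at this

theorem comm_sq {a b : G} (ha : a ∈ D) (hb : b ∈ D) (h : a * b = b * a) : (a * b) ^ 2 = 1 := by
  rw [(show Commute a b from h).mul_pow, pow_two, pow_two, sq hD ha, sq hD hb, one_mul]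

theorem not_comm_of_odd2 {a b : G} (ha : a ∈ D) (hb : b ∈ D) (h : Odd2 a b) : a * b ≠ b * a := fun hc => by
  have := eq_one_of_odd_of_two_pow h.2 1 (comm_sq hD ha hb hc)
  exact h.1 ((mul_eq_one_iff_eq_inv.1 this).trans (inv_eq hD hb))

theorem not_comm_of_four {a b : G} (ha : a ∈ D) (hb : b ∈ D) (h : Four a b) : a * b ≠ b * a := fun hc => by
  have := orderOf_dvd_of_pow_eq_one (comm_sq hD ha hb hc)
  rw [show orderOf (a * b) = 4 from h] at this
  omega

omit hD in
theorem not_odd2_of_four {a b : G} (h : Four a b) : ¬ Odd2 a b := fun h' => by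
  have := h'.2; rw [show orderOf (a * b) = 4 from h] at this; exact absurd this (by decide)

theorem pair3 {a b : G} (ha : a ∈ D) (hb : b ∈ D) : a * b = b * a ∨ Odd2 a b ∨ Four a b := by
  rcases hD.pair a ha b hb with h | h | h
  · exact Or.inl h
  · by_cases he : a = b
    · exact Or.inl (by rw [he])
    · exact Or.inr (Or.inl ⟨he, h⟩)
  · exact Or.inr (Or.inr h.1)

theorem four_of_not {a b : G} (ha : a ∈ D) (hb : b ∈ D) (hc : a * b ≠ b * a) (ho : ¬ Odd2 a b) : Four a b :=
  ((pair3 hD ha hb).resolve_left hc).resolve_left ho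

theorem pow_four_of_not_odd2 {a b : G} (ha : a ∈ D) (hb : b ∈ D) (ho : ¬ Odd2 a b) : (a * b) ^ 4 = 1 := by
  rcases pair3 hD ha hb with h | h | h
  · rw [show (4 : ℕ) = 2 * 2 from rfl, pow_mul, comm_sq hD ha hb h, one_pow]
  · exact absurd h ho
  · rw [← show orderOf (a * b) = 4 from h]; exact pow_orderOf_eq_one _

theorem four_sq_mem {a b : G} (ha : a ∈ D) (hb : b ∈ D) (h : Four a b) : (a * b) ^ 2 ∈ D := by
  rcases hD.pair a ha b hb with h' | h' | h'
  · exact absurd h' (not_comm_of_four hD ha hb h)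
  · rw [show orderOf (a * b) = 4 from h] at h'; exact absurd h' (by decide)
  · exact h'.2

theorem four_sq_eq {a b : G} (ha : a ∈ D) (hb : b ∈ D) (h : Four a b) : (b * a) ^ 2 = (a * b) ^ 2 := by
  have h4 : (a * b) ^ 2 * (a * b) ^ 2 = 1 := by
    have := pow_orderOf_eq_one (a * b)
    rw [show orderOf (a * b) = 4 from h] at this
    rwa [← pow_add]
  rw [← inv_eq_of_mul_eq_one_right h4, ← inv_pow, mul_inv_rev, inv_eq hD ha, inv_eq hD hb]

theorem four_comm_sq {a b : G} (ha : a ∈ D) (hb : b ∈ D) (h : Four a b) : a * (a * b) ^ 2 = (a * b) ^ 2 * a := by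
  conv_rhs => rw [← four_sq_eq hD ha hb h]
  simp only [pow_two, mul_assoc, cancel hD ha, sq hD ha, mul_one]

/-- For a product of order four, `a`, `b a b` and `(a b)²` form a triangle. -/
theorem four_tri {a b : G} (ha : a ∈ D) (hb : b ∈ D) (h : Four a b) :
    Tri D a (b * a * b) ∧ a * (b * a * b) = (a * b) ^ 2 ∧ Tri D a ((a * b) ^ 2) ∧
      a * (a * b) ^ 2 = b * a * b := by
  have e1 : a * (b * a * b) = (a * b) ^ 2 := by simp only [pow_two, mul_assoc]
  have e2 : a * (a * b) ^ 2 = b * a * b := by simp only [pow_two, mul_assoc, cancel hD ha]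
  refine ⟨⟨ha, conj3 hD ha hb, ?_, e1 ▸ four_sq_mem hD ha hb h⟩, e1,
    ⟨ha, four_sq_mem hD ha hb h, four_comm_sq hD ha hb h, e2 ▸ conj3 hD ha hb⟩, e2⟩
  rw [e1, ← four_sq_eq hD ha hb h, pow_two]
  simp only [mul_assoc]

omit hD in
theorem Tri.symm {a b : G} (t : Tri D a b) : Tri D b a := ⟨t.right, t.left, t.comm.symm, t.comm ▸ t.mul_mem⟩

theorem Tri.third {a b : G} (t : Tri D a b) : Tri D a (a * b) := by
  refine ⟨t.left, t.mul_mem, ?_, by rw [cancel hD t.left]; exact t.right⟩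
  rw [cancel hD t.left, mul_assoc, ← t.comm, cancel hD t.left]

theorem Tri.ne {a b : G} (t : Tri D a b) : a ≠ b := by
  rintro rfl; exact ne_one hD t.mul_mem (sq hD t.left)

theorem nice_of_four {a b : G} (ha : a ∈ D) (hb : b ∈ D) (h : Four a b) : Nice D a (b * a * b) :=
  ⟨(four_tri hD ha hb h).1.comm, Or.inr (four_tri hD ha hb h).1.mul_mem⟩

theorem Nice.not_odd2 {x y : G} (hx : x ∈ D) (hy : y ∈ D) (h : Nice D x y) : ¬ Odd2 x y :=
  fun ho => not_comm_of_odd2 hD hx hy ho h.1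

/-- An element of even order two times odd is no product of two members. -/
theorem no_prod {q k x y : G} (hq : Odd (orderOf q)) (hq1 : q ≠ 1) (hk : k * k = 1) (hk1 : k ≠ 1)
    (hc : Commute q k) (hx : x ∈ D) (hy : y ∈ D) : x * y ≠ q * k := by
  intro he
  have k2 : k ^ 2 = 1 := by rw [pow_two, hk]
  rcases pair3 hD hx hy with h | h | h
  · have := comm_sq hD hx hy h
    rw [he, hc.mul_pow, k2, mul_one] at this
    exact hq1 (eq_one_of_odd_of_two_pow hq 1 this)
  · have h1 : q ^ orderOf (x * y) * k = 1 := by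
      have := pow_orderOf_eq_one (x * y)
      rwa [he, hc.mul_pow, pow_odd_of_sq hk (he ▸ h.2), ← he] at this
    have h2 : (q ^ orderOf (x * y) * k) ^ orderOf q = 1 := by rw [h1, one_pow]
    rw [(hc.pow_left _).mul_pow, pow_odd_of_sq hk hq, ← pow_mul, mul_comm, pow_mul, pow_orderOf_eq_one, one_pow,
      one_mul] at h2
    exact hk1 h2
  · have := pow_four_of_not_odd2 hD hx hy (not_odd2_of_four h)
    rw [he, hc.mul_pow, show (4 : ℕ) = 2 * 2 from rfl, pow_mul k, k2, one_pow, mul_one] at this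
    exact hq1 (eq_one_of_odd_of_two_pow hq 2 this)

/-- An odd partner of `a` does not commute with the other members of a triangle on `a`. -/
theorem Tri.not_comm {a b z : G} (t : Tri D a b) (hz : z ∈ D) (h : Odd2 z a) : z * b ≠ b * z := by
  intro hc
  refine no_prod hD h.2 (fun e => h.1 ((mul_eq_one_iff_eq_inv.1 e).trans (inv_eq hD t.left))) (sq hD t.right)
    (ne_one hD t.right) ?_ hz t.mul_mem (mul_assoc z a b).symm
  exact (show Commute z b from hc).mul_left t.comm

/-- An odd partner of a member of a triangle is one of exactly another member. -/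
theorem Tri.key {a b z : G} (t : Tri D a b) (hz : z ∈ D) (h : Odd2 z a) : Odd2 z b ∨ Odd2 z (a * b) := by
  by_contra hno
  push Not at hno
  have ha := t.left
  have hb := t.right
  have hc := t.mul_mem
  have f1 := four_of_not hD hz hb (t.not_comm hD hz h) hno.1
  have f2 := four_of_not hD hz hc ((Tri.third hD t).not_comm hD hz h) hno.2
  set e := (z * b) ^ 2 with he
  set e' := (z * (a * b)) ^ 2 with he'
  obtain ⟨-, -, tze, -⟩ := four_tri hD hz hb f1
  have tbe : Tri D b e := by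
    have := (four_tri hD hb hz f1.symm).2.2.1
    rwa [four_sq_eq hD hz hb f1, ← he] at this
  have hed := tze.right
  have he'd : e' ∈ D := four_sq_mem hD hz hc f2
  have nce : a * e ≠ e * a := tze.not_comm hD ha h.symm
  have foure : Four a e := four_of_not hD ha hed nce fun ho => tbe.symm.not_comm hD ha ho t.comm
  have hz2 : ∀ x, z * (z * x) = x := cancel hD hz
  have tce' : Tri D (a * b) e' := by
    have := (four_tri hD hc hz f2.symm).2.2.1
    rwa [four_sq_eq hD hz hc f2, ← he'] at this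
  obtain ⟨-, -, tze', -⟩ := four_tri hD hz hc f2
  have nce' : a * e' ≠ e' * a := tze'.not_comm hD ha h.symm
  have foure' : Four a e' := four_of_not hD ha he'd nce' fun ho =>
    tce'.symm.not_comm hD ha ho ((Tri.third hD t).comm)
  have P4 : (e * a) ^ 4 = 1 := pow_four_of_not_odd2 hD hed ha (not_odd2_of_four foure.symm)
  have Q4 : (e' * a) ^ 4 = 1 := pow_four_of_not_odd2 hD he'd ha (not_odd2_of_four foure'.symm)
  have hzaz : e * a * e' = z * a * z := by
    have e2 : e' = (a * b * z) ^ 2 := (four_sq_eq hD hz hc f2).symm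
    rw [he, e2]
    have hab : b * (a * (a * (b * 1))) = 1 := by rw [cancel hD ha, mul_one, sq hD hb]
    calc (z * b) ^ 2 * a * (a * b * z) ^ 2
        = z * b * z * (b * (a * (a * (b * 1)))) * (z * (a * b) * z) := by simp only [pow_two, mul_assoc, mul_one]
      _ = z * b * z * (z * (a * b) * z) := by rw [hab, mul_one]
      _ = z * (b * (a * b)) * z := by simp only [mul_assoc, hz2]
      _ = z * a * z := by rw [t.comm, cancel hD hb]
  have hk : e * a * e' * (e * a * e') = 1 := by rw [hzaz]; exact sq hD (conj3 hD ha hz)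
  have hzaz' : e' * a * e = e * a * e' := by
    have := inv_eq_of_mul_eq_one_right hk
    rwa [mul_inv_rev, mul_inv_rev, inv_eq hD hed, inv_eq hD ha, inv_eq hD he'd, ← mul_assoc] at this
  have hPQ : Commute (e * a) (e' * a) := by
    show e * a * (e' * a) = e' * a * (e * a)
    rw [← mul_assoc, ← mul_assoc (e' * a), hzaz']
  have h8 : (z * a) ^ (2 ^ 3) = 1 := by
    have e8 : (z * a) ^ 2 = e * a * (e' * a) := by rw [pow_two, ← mul_assoc, ← mul_assoc (e * a), hzaz]
    rw [show (2 : ℕ) ^ 3 = 2 * 4 from rfl, pow_mul, e8, hPQ.mul_pow, P4, Q4, one_mul]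
  exact h.1 ((mul_eq_one_iff_eq_inv.1 (eq_one_of_odd_of_two_pow h.2 3 h8)).trans (inv_eq hD ha))

/-- An odd partner of a member of a triangle on `b` is one of `a` or of `a b`. -/
theorem Tri.key' {a b z : G} (t : Tri D a b) (hz : z ∈ D) (h : Odd2 z b) : Odd2 z a ∨ Odd2 z (a * b) :=
  (t.symm.key hD hz h).imp_right fun h' => t.comm ▸ h'

section Finite

variable [Finite G]

omit hD in
theorem isPGroup_pair {s t : G} (hs : orderOf s = 2) (ht : orderOf t = 2) (h : (s * t) ^ 4 = 1) :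
    IsPGroup 2 ↥(Subgroup.closure ({s, t} : Set G)) := by
  rw [← Invol.dihHom_range hs ht]
  obtain ⟨i, -, hi⟩ := (Nat.dvd_prime_pow Nat.prime_two).1
    (orderOf_dvd_of_pow_eq_one (show (s * t) ^ (2 ^ 2) = 1 from h))
  have hd : IsPGroup 2 (DihedralGroup (orderOf (s * t))) :=
    IsPGroup.of_card (n := i + 1) (by rw [DihedralGroup.nat_card, hi, pow_succ]; ring)
  exact hd.of_surjective _ (Invol.dihHom hs ht).rangeRestrict_surjective

omit hD in
theorem mem_pCore_two {s : G} (hs : orderOf s = 2) (h : ∀ g : G, (s * (g * s * g⁻¹)) ^ 4 = 1) :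
    s ∈ Cfsg.pCore 2 G := by
  haveI : Fact (Nat.Prime 2) := ⟨Nat.prime_two⟩
  have hg : ∀ g : G, IsPGroup 2 ↥(Subgroup.zpowers s ⊔ (Subgroup.zpowers s).map (MulAut.conj g).toMonoidHom) := by
    intro g
    rw [MonoidHom.map_zpowers, Subgroup.zpowers_eq_closure, Subgroup.zpowers_eq_closure, ← Subgroup.closure_union,
      Set.singleton_union]
    exact isPGroup_pair hs (by simpa [Invol.order_conj] using hs) (h g)
  obtain ⟨N, hN, hN2, hsN⟩ := BaerSuzuki.baerSuzuki (Subgroup.zpowers s)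
    (IsPGroup.of_card (n := 1) (by rw [Nat.card_zpowers, hs, pow_one])) hg
  exact PBasic.le_pCore hN hN2 (hsN (Subgroup.mem_zpowers s))

theorem closure_le_pCore {S : Set G} (hS : S ⊆ D) (hinv : ∀ s ∈ S, ∀ g : G, g * s * g⁻¹ ∈ S)
    (h : ∀ s ∈ S, ∀ t ∈ S, ¬ Odd2 s t) : Subgroup.closure S ≤ Cfsg.pCore 2 G :=
  (Subgroup.closure_le _).2 fun s hs => mem_pCore_two (hD.orderOf_eq s (hS hs)) fun g =>
    pow_four_of_not_odd2 hD (hS hs) (hS (hinv s hs g)) (h s hs _ (hinv s hs g))

theorem isPGroup_closure {S : Set G} (hS : S ⊆ D) (hinv : ∀ s ∈ S, ∀ t ∈ S, t * s * t ∈ S)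
    (h : ∀ s ∈ S, ∀ t ∈ S, ¬ Odd2 s t) : IsPGroup 2 ↥(Subgroup.closure S) := by
  haveI : Fact (Nat.Prime 2) := ⟨Nat.prime_two⟩
  have hconj : ∀ g ∈ Subgroup.closure S, ∀ s ∈ S, g * s * g⁻¹ ∈ S ∧ g⁻¹ * s * g ∈ S := by
    intro g hg
    induction hg using Subgroup.closure_induction with
    | mem t ht => exact fun s hs => by rw [inv_eq hD (hS ht)]; exact ⟨hinv s hs t ht, hinv s hs t ht⟩
    | one => exact fun s hs => by simpa using hs
    | mul x y _ _ hx hy => exact fun s hs => ⟨by simpa [mul_assoc] using (hx _ (hy s hs).1).1,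
        by simpa [mul_assoc] using (hy _ (hx s hs).2).2⟩
    | inv x _ hx => exact fun s hs => by simpa [and_comm] using hx s hs
  have hle : ∀ x : ↥(Subgroup.closure S), x ∈ Cfsg.pCore 2 ↥(Subgroup.closure S) := by
    rintro ⟨x, hx⟩
    induction hx using Subgroup.closure_induction with
    | mem s hs =>
      refine mem_pCore_two (by rw [Subgroup.orderOf_mk]; exact hD.orderOf_eq s (hS hs)) fun g => Subtype.ext ?_
      have hm := (hconj g g.2 s hs).1
      simpa using pow_four_of_not_odd2 hD (hS hs) (hS hm) (h s hs _ hm)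
    | one => exact one_mem _
    | mul a b _ _ ha hb => exact mul_mem ha hb
    | inv a _ ha => exact inv_mem ha
  intro x
  obtain ⟨k, hk⟩ := PBasic.pCore_isPGroup 2 ↥(Subgroup.closure S) ⟨x, hle x⟩
  exact ⟨k, by simpa using congrArg Subtype.val hk⟩

/-! ### components -/

omit hD [Finite G] in
theorem oddAdj_iff {a b : G} : Cfsg.OddAdj D a b ↔ a ∈ D ∧ b ∈ D ∧ Odd2 a b := Iff.rfl

omit hD [Finite G] in
theorem oddAdj_symm : Symmetric (Cfsg.OddAdj D) := fun _ _ h =>
  ⟨h.2.1, h.1, (show Odd2 _ _ from h.2.2).symm⟩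

omit hD [Finite G] in
theorem reach_symm {a b : G} (h : Relation.ReflTransGen (Cfsg.OddAdj D) a b) :
    Relation.ReflTransGen (Cfsg.OddAdj D) b a := by
  induction h with
  | refl => exact Relation.ReflTransGen.refl
  | tail _ h2 ih => exact ih.head (oddAdj_symm h2)

omit hD [Finite G] in
theorem comp_eq {a b : G} (h : b ∈ Cfsg.elemComponentOf (Cfsg.OddAdj D) D a) :
    Cfsg.elemComponentOf (Cfsg.OddAdj D) D b = Cfsg.elemComponentOf (Cfsg.OddAdj D) D a := by
  ext c
  exact ⟨fun hc => ⟨hc.1, h.2.trans hc.2⟩, fun hc => ⟨hc.1, (reach_symm h.2).trans hc.2⟩⟩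

omit hD [Finite G] in
theorem exists_partner {a : G} (h : ∃ a' ∈ Cfsg.elemComponentOf (Cfsg.OddAdj D) D a, a' ≠ a) :
    ∃ z, Cfsg.OddAdj D a z := by
  obtain ⟨a', ⟨-, h'⟩, hne⟩ := h
  rcases h'.cases_head with e | ⟨z, hz, -⟩
  · exact absurd e.symm hne
  · exact ⟨z, hz⟩

omit hD [Finite G] in
theorem not_isolated_of_adj {a z : G} (h : Cfsg.OddAdj D a z) : ¬ Cfsg.IsIsolatedElem (Cfsg.OddAdj D) D a :=
  fun hi => (hi.2 z).1 h

omit hD [Finite G] in
theorem exists_adj_of_not_isolated {a : G} (ha : a ∈ D) (h : ¬ Cfsg.IsIsolatedElem (Cfsg.OddAdj D) D a) :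
    ∃ z, Cfsg.OddAdj D a z := by
  by_contra hn
  push Not at hn
  exact h ⟨ha, fun b => ⟨hn b, fun hb => hn b (oddAdj_symm hb)⟩⟩

theorem Tri.comp_or_isolated {a b z : G} (t : Tri D a b) (hz : Cfsg.OddAdj D a z) :
    b ∈ Cfsg.elemComponentOf (Cfsg.OddAdj D) D a ∨ Cfsg.IsIsolatedElem (Cfsg.OddAdj D) D b := by
  have mk : ∀ x y, x ∈ D → y ∈ D → Odd2 x y → Relation.ReflTransGen (Cfsg.OddAdj D) x y :=
    fun x y hx hy ho => Relation.ReflTransGen.single ⟨hx, hy, ho⟩
  obtain ⟨ha, hzD, hoz⟩ := hz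
  change Odd2 a z at hoz
  by_cases hb : Cfsg.IsIsolatedElem (Cfsg.OddAdj D) D b
  · exact Or.inr hb
  refine Or.inl ⟨t.right, ?_⟩
  obtain ⟨w, -, hwD, hbw⟩ := exists_adj_of_not_isolated t.right hb
  change Odd2 b w at hbw
  rcases t.key hD hzD hoz.symm with h | h
  · exact (mk a z ha hzD hoz).trans (mk z b hzD t.right h)
  rcases t.key' hD hwD hbw.symm with h' | h'
  · exact (mk a w ha hwD h'.symm).trans (mk w b hwD t.right hbw.symm)
  · exact (((mk a z ha hzD hoz).trans (mk z _ hzD t.mul_mem h)).trans (mk _ w t.mul_mem hwD h'.symm)).trans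
      (mk w b hwD t.right hbw.symm)

theorem isolated_conj {w : G} (hw : Cfsg.IsIsolatedElem (Cfsg.OddAdj D) D w) (g : G) :
    Cfsg.IsIsolatedElem (Cfsg.OddAdj D) D (g * w * g⁻¹) := by
  refine ⟨hD.conj_mem w hw.1 g, fun b => ⟨fun hb => ?_, fun hb => ?_⟩⟩
  all_goals
    have hb' : Cfsg.OddAdj D (g * w * g⁻¹) b := by first | exact hb | exact oddAdj_symm hb
    obtain ⟨-, hbD, ho⟩ := oddAdj_iff.1 hb'
    have hb2 : g⁻¹ * b * g ∈ D := by simpa using hD.conj_mem b hbD g⁻¹
    refine (hw.2 (g⁻¹ * b * g)).1 ⟨hw.1, hb2, ?_⟩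
    have := (odd2_conj_iff g w (g⁻¹ * b * g)).1 (by simpa [mul_assoc] using ho)
    exact this

/-- The isolated members generate a subgroup of `O₂` meeting `D` in themselves. -/
theorem isolated_spec :
    (Subgroup.closure {w | Cfsg.IsIsolatedElem (Cfsg.OddAdj D) D w}).Normal ∧
    IsPGroup 2 ↥(Subgroup.closure {w | Cfsg.IsIsolatedElem (Cfsg.OddAdj D) D w}) ∧
    (Subgroup.closure {w | Cfsg.IsIsolatedElem (Cfsg.OddAdj D) D w} : Set G) ∩ D =
      {w | Cfsg.IsIsolatedElem (Cfsg.OddAdj D) D w} := by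
  set W := {w | Cfsg.IsIsolatedElem (Cfsg.OddAdj D) D w} with hW
  haveI : Fact (Nat.Prime 2) := ⟨Nat.prime_two⟩
  have hn : (Subgroup.closure W).Normal := ⟨fun x hx g => by
    induction hx using Subgroup.closure_induction with
    | mem w hw => exact Subgroup.subset_closure (isolated_conj hD hw g)
    | one => simp
    | mul a b _ _ ha hb => simpa [mul_assoc] using mul_mem ha hb
    | inv a _ ha => simpa [mul_assoc] using inv_mem ha⟩
  have hle : Subgroup.closure W ≤ Cfsg.pCore 2 G :=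
    closure_le_pCore hD (fun w hw => hw.1) (fun w hw g => isolated_conj hD hw g)
      fun s hs t ht ho => (hs.2 t).1 ⟨hs.1, ht.1, ho⟩
  have hp : IsPGroup 2 ↥(Subgroup.closure W) := (PBasic.pCore_isPGroup 2 G).to_le hle
  refine ⟨hn, hp, Set.Subset.antisymm (fun d hd => ?_) fun w hw => ⟨Subgroup.subset_closure hw, hw.1⟩⟩
  by_contra hni
  obtain ⟨z, hzD, hzz, ho⟩ := exists_adj_of_not_isolated hd.2 hni
  change d ≠ z ∧ _ at ho
  have hm : (d * z) ^ 2 ∈ Subgroup.closure W := by
    have h1 := mul_mem hd.1 (hn.conj_mem d hd.1 z)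
    simpa [pow_two, inv_eq hD hzz, mul_assoc] using h1
  obtain ⟨j, hj⟩ := hp ⟨_, hm⟩
  have h2 : (d * z) ^ (2 ^ (j + 1)) = 1 := by
    rw [pow_succ', pow_mul]; simpa using congrArg Subtype.val hj
  exact ho.1 ((mul_eq_one_iff_eq_inv.1 (eq_one_of_odd_of_two_pow ho.2 _ h2)).trans (inv_eq hD hzz))

end Finite

end Cfsg.Agent.RootInvol
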