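/-
Two-dimensional special linear subgroups of matrix groups, and the transvection classes of SL and Sp.
-/
import Cfsg.Agent.Lib.RootClass.Build
import Cfsg.Agent.Lib.Transvec.SympStd
set_option autoImplicit false

namespace Cfsg.Agent.RootClass

open Cfsg.Agent.Timmesfeld Cfsg.Agent.Transvec
open scoped Matrix
open Matrix

/-- Two non-zero additive maps are simultaneously non-zero somewhere. -/
theorem exists_both_ne {V W W' : Type*} [AddCommGroup V] [AddCommGroup W] [AddCommGroup W'] (f : V →+ W) (g : V →+ W')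
    (hf : ∃ x, f x ≠ 0) (hg : ∃ x, g x ≠ 0) : ∃ x, f x ≠ 0 ∧ g x ≠ 0 := by
  obtain ⟨x, hx⟩ := hf
  obtain ⟨y, hy⟩ := hg
  by_cases h1 : g x = 0
  · by_cases h2 : f y = 0
    · exact ⟨x + y, by rw [map_add, h2, add_zero]; exact hx, by rw [map_add, h1, zero_add]; exact hy⟩
    · exact ⟨y, h2, hy⟩
  · exact ⟨x, hx, h1⟩

theorem commutator_eq_of {G : Type*} [Group G] {x y z : G} (h : x * y = z * (y * x)) : x * y * x⁻¹ * y⁻¹ = z := by
  rw [h]; group

variable {ι : Type} [Fintype ι] [DecidableEq ι] {k : Type*} [Field k]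

/-- The action of a two-by-two matrix on a complemented plane. -/
def planeMap (v w : ι → k) (α β : Module.Dual k (ι → k)) (g : Matrix (Fin 2) (Fin 2) k) :
    (ι → k) →ₗ[k] (ι → k) :=
  LinearMap.id + LinearMap.smulRight ((g 0 0 - 1) • α + g 0 1 • β) v +
    LinearMap.smulRight (g 1 0 • α + (g 1 1 - 1) • β) w

theorem planeMap_apply (v w : ι → k) (α β : Module.Dual k (ι → k)) (g : Matrix (Fin 2) (Fin 2) k) (x : ι → k) :
    planeMap v w α β g x = x + ((g 0 0 - 1) * α x + g 0 1 * β x) • v + (g 1 0 * α x + (g 1 1 - 1) * β x) • w := rfl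

variable {v w : ι → k} {α β : Module.Dual k (ι → k)} (hαv : α v = 1) (hαw : α w = 0) (hβv : β v = 0) (hβw : β w = 1)

theorem planeMap_one : planeMap v w α β 1 = LinearMap.id := by
  refine LinearMap.ext fun x => ?_
  rw [planeMap_apply, LinearMap.id_apply]
  simp

include hαv hαw hβv hβw

theorem planeMap_mul (g h : Matrix (Fin 2) (Fin 2) k) :
    planeMap v w α β (g * h) = (planeMap v w α β g).comp (planeMap v w α β h) := by
  refine LinearMap.ext fun x => ?_
  simp only [LinearMap.comp_apply, planeMap_apply, map_add, map_smul, hαv, hαw, hβv, hβw, smul_eq_mul,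
    Matrix.mul_apply, Fin.sum_univ_two]
  module

/-- The plane action as a homomorphism. -/
noncomputable def planeHom : Matrix.SpecialLinearGroup (Fin 2) k →* GL ι k :=
  MonoidHom.toHomUnits
    { toFun := fun g => LinearMap.toMatrix' (planeMap v w α β (g : Matrix (Fin 2) (Fin 2) k))
      map_one' := by rw [Matrix.SpecialLinearGroup.coe_one, planeMap_one, LinearMap.toMatrix'_id]
      map_mul' := fun g h => by
        rw [Matrix.SpecialLinearGroup.coe_mul, planeMap_mul hαv hαw hβv hβw, LinearMap.toMatrix'_comp] }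

theorem mv_planeHom (g : Matrix.SpecialLinearGroup (Fin 2) k) (x : ι → k) :
    mv (planeHom hαv hαw hβv hβw g) x = planeMap v w α β (g : Matrix (Fin 2) (Fin 2) k) x :=
  LinearMap.toMatrix'_mulVec _ _

theorem planeHom_upper (c : k) (x : ι → k) : mv (planeHom hαv hαw hβv hβw (upperSL c)) x = x + (c * β x) • v := by
  rw [mv_planeHom, planeMap_apply, upperSL_coe]; simp

theorem planeHom_lower (c : k) (x : ι → k) : mv (planeHom hαv hαw hβv hβw (lowerSL c)) x = x + (c * α x) • w := by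
  rw [mv_planeHom, planeMap_apply, lowerSL_coe]; simp

theorem planeHom_injective : Function.Injective (planeHom hαv hαw hβv hβw) := by
  intro g h he
  have hv : planeMap v w α β (g : Matrix (Fin 2) (Fin 2) k) v = planeMap v w α β (h : Matrix (Fin 2) (Fin 2) k) v := by
    rw [← mv_planeHom hαv hαw hβv hβw, he, mv_planeHom]
  have hw : planeMap v w α β (g : Matrix (Fin 2) (Fin 2) k) w = planeMap v w α β (h : Matrix (Fin 2) (Fin 2) k) w := by
    rw [← mv_planeHom hαv hαw hβv hβw, he, mv_planeHom]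
  simp only [planeMap_apply, hαv, hαw, hβv, hβw, mul_one, mul_zero, add_zero, zero_add] at hv hw
  have a0 := congrArg α hv
  have a1 := congrArg β hv
  have b0 := congrArg α hw
  have b1 := congrArg β hw
  simp only [map_add, map_smul, hαv, hαw, hβv, hβw, smul_eq_mul, mul_one, mul_zero, add_zero, zero_add,
    add_sub_cancel] at a0 a1 b0 b1
  ext i j
  fin_cases i <;> fin_cases j
  · exact a0
  · exact b0
  · exact a1
  · exact b1

omit hαv hαw hβv hβw

variable {G : Type*} [Group G] {P : Type*} (R : Fam G k P)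

/-- A plane homomorphism into an embedded group gives a linked pair. -/
theorem Fam.linked_of_lift (emb : G →* GL ι k) (hemb : Function.Injective emb)
    (ψ : Matrix.SpecialLinearGroup (Fin 2) k →* GL ι k) (hψ : Function.Injective ψ) {p q : P} {μ ν : k} (hμ : μ ≠ 0)
    (hν : ν ≠ 0) (hu : ∀ c, ψ (upperSL c) = emb (R.T p (μ * c))) (hl : ∀ c, ψ (lowerSL c) = emb (R.T q (ν * c))) :
    R.Linked p q := by
  have hr : ∀ g, ψ g ∈ emb.range := by
    intro g
    have hle : Cfsg.lowerUnipotentSL2 k ⊔ Cfsg.upperUnipotentSL2 k ≤ emb.range.comap ψ := by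
      refine sup_le (fun x hx => ?_) fun x hx => ?_
      · obtain ⟨c, rfl⟩ := mem_lower.1 hx; exact ⟨_, (hl c).symm⟩
      · obtain ⟨c, rfl⟩ := mem_upper.1 hx; exact ⟨_, (hu c).symm⟩
    rw [(special_SL (k := k)).1.1] at hle
    exact hle (Subgroup.mem_top g)
  let φ : Matrix.SpecialLinearGroup (Fin 2) k →* G :=
    (MonoidHom.ofInjective hemb).symm.toMonoidHom.comp (ψ.codRestrict emb.range hr)
  have hφ : ∀ g, emb (φ g) = ψ g := fun g => by
    simpa [φ] using MonoidHom.apply_ofInjective_symm hemb (ψ.codRestrict emb.range hr g)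
  exact ⟨φ, fun a b h => hψ (by rw [← hφ, ← hφ, h]), μ, ν, hμ, hν, fun c => hemb (by rw [hφ, hu]),
    fun c => hemb (by rw [hφ, hl])⟩

/-! ### The special linear group -/

section SL

variable {n : ℕ}

/-- Incident point-hyperplane pairs. -/
abbrev SLPoint (n : ℕ) (k : Type*) [Field k] : Type _ :=
  {z : (Fin n → k) × Module.Dual k (Fin n → k) // z.1 ≠ 0 ∧ z.2 ≠ 0 ∧ z.2 z.1 = 0}

/-- The transvection subgroups of the special linear group. -/
noncomputable def slFam (n : ℕ) (k : Type*) [Field k] :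
    Fam (Matrix.SpecialLinearGroup (Fin n) k) k (SLPoint n k) where
  T p c := ⟨tvMat p.1.1 (c • p.1.2), by rw [det_tvMat, LinearMap.smul_apply, p.2.2.2, smul_zero, add_zero]⟩
  add p a b := by
    refine Subtype.ext (Matrix.ext_of_mulVec_single fun i => ?_)
    show tvMat p.1.1 ((a + b) • p.1.2) *ᵥ _ = (tvMat p.1.1 (a • p.1.2) * tvMat p.1.1 (b • p.1.2)) *ᵥ _
    rw [← Matrix.mulVec_mulVec]
    simp only [tvMat_mulVec, LinearMap.smul_apply, map_add, map_smul, p.2.2.2, smul_eq_mul]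
    module
  ne p h := by
    obtain ⟨x, hx⟩ := DFunLike.ne_iff.1 p.2.2.1
    have h1 := congrArg (fun g : Matrix.SpecialLinearGroup (Fin n) k => (g : Matrix (Fin n) (Fin n) k) *ᵥ x) h
    simp only [tvMat_mulVec, one_smul, Matrix.SpecialLinearGroup.coe_one, Matrix.one_mulVec, add_eq_left,
      smul_eq_zero] at h1
    exact h1.elim (by simpa using hx) p.2.1

theorem slFam_apply (p : SLPoint n k) (c : k) (x : Fin n → k) :
    mv (Matrix.SpecialLinearGroup.toGL ((slFam n k).T p c)) x = x + (c * p.1.2 x) • p.1.1 :=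
  tvMat_mulVec _ _ x

theorem slFam_conj (g : Matrix.SpecialLinearGroup (Fin n) k) (p : SLPoint n k) :
    ∃ q, Cfsg.conjBy ((slFam n k).grp p) g = (slFam n k).grp q := by
  set G' := Matrix.SpecialLinearGroup.toGL g with hG
  have hinj : Function.Injective (Matrix.SpecialLinearGroup.toGL (n := Fin n) (R := k)) :=
    Matrix.SpecialLinearGroup.toGL_injective
  refine ⟨⟨(mv G' p.1.1, p.1.2.comp (mvLin G'⁻¹)), fun h => p.2.1 (mv_inj G' (by simpa [mv_zero] using h)),
    fun h => p.2.2.1 (LinearMap.ext fun x => ?_), ?_⟩, ?_⟩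
  · have := LinearMap.congr_fun h (mv G' x)
    simpa [mv_inv_mv] using this
  · show p.1.2 (mvLin G'⁻¹ (mv G' p.1.1)) = 0
    simpa [mv_inv_mv] using p.2.2.2
  ext x
  have key : ∀ c, g * (slFam n k).T p c * g⁻¹ = (slFam n k).T
      ⟨(mv G' p.1.1, p.1.2.comp (mvLin G'⁻¹)), fun h => p.2.1 (mv_inj G' (by simpa [mv_zero] using h)),
        fun h => p.2.2.1 (LinearMap.ext fun x => by simpa [mv_inv_mv] using LinearMap.congr_fun h (mv G' x)),
        by show p.1.2 (mvLin G'⁻¹ (mv G' p.1.1)) = 0; simpa [mv_inv_mv] using p.2.2.2⟩ c := fun c =>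
    hinj (ext_mv fun y => by
      simp only [map_mul, map_inv, mv_mul, slFam_apply, mv_add, mv_smul, ← hG, mv_mv_inv]
      rfl)
  constructor
  · rintro ⟨_, ⟨c, rfl⟩, rfl⟩
    exact ⟨c, (key c).symm⟩
  · rintro ⟨c, rfl⟩
    exact ⟨_, ⟨c, rfl⟩, key c⟩

theorem slFam_gen (H : Subgroup (Matrix.SpecialLinearGroup (Fin n) k)) (h : ∀ p c, (slFam n k).T p c ∈ H) :
    H = ⊤ := by
  refine eq_top_iff.2 fun g _ => ?_
  have hle : Geo.specialLinear (Fin n) k ≤ H.map Matrix.SpecialLinearGroup.toGL := by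
    refine specialLinear_le fun v φ hv => ?_
    by_cases h0 : v = 0 ∨ φ = 0
    · refine ⟨1, H.one_mem, ext_mv fun x => ?_⟩
      rw [map_one, mv_one, mv_tv]
      rcases h0 with rfl | rfl <;> simp
    · push Not at h0
      exact ⟨_, h ⟨(v, φ), h0.1, h0.2, hv⟩ 1, ext_mv fun x => by rw [slFam_apply, mv_tv, one_mul]⟩
  obtain ⟨g', hg', he⟩ := hle (show Matrix.SpecialLinearGroup.toGL g ∈ Geo.specialLinear (Fin n) k by
    rw [Geo.specialLinear, MonoidHom.mem_ker]
    ext
    rw [Matrix.GeneralLinearGroup.val_det_apply]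
    exact g.2)
  rwa [← Matrix.SpecialLinearGroup.toGL_injective he]

theorem slFam_linked {p q : SLPoint n k} (ha : p.1.2 q.1.1 ≠ 0) (hb : q.1.2 p.1.1 ≠ 0) :
    (slFam n k).Linked p q := by
  refine (slFam n k).linked_of_lift Matrix.SpecialLinearGroup.toGL Matrix.SpecialLinearGroup.toGL_injective
    (planeHom (v := p.1.1) (w := q.1.1) (α := (q.1.2 p.1.1)⁻¹ • q.1.2) (β := (p.1.2 q.1.1)⁻¹ • p.1.2)
      (by simp [hb]) (by simp [q.2.2.2]) (by simp [p.2.2.2]) (by simp [ha]))
    (planeHom_injective _ _ _ _) (inv_ne_zero ha) (inv_ne_zero hb) (fun c => ext_mv fun x => ?_)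
    fun c => ext_mv fun x => ?_
  · rw [planeHom_upper, slFam_apply, LinearMap.smul_apply, smul_eq_mul]; ring_nf
  · rw [planeHom_lower, slFam_apply, LinearMap.smul_apply, smul_eq_mul]; ring_nf

theorem slFam_comm {p q : SLPoint n k} (ha : p.1.2 q.1.1 = 0) (hb : q.1.2 p.1.1 = 0) : (slFam n k).Comm p q :=
  fun c d => Matrix.SpecialLinearGroup.toGL_injective (ext_mv fun x => by
    simp only [map_mul, mv_mul, slFam_apply, map_add, map_smul, ha, hb, smul_eq_mul, mul_zero, add_zero]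
    module)

theorem slFam_bracket_left {p q : SLPoint n k} (ha : p.1.2 q.1.1 ≠ 0) (hb : q.1.2 p.1.1 = 0) :
    (slFam n k).Bracket p q := by
  refine ⟨⟨(p.1.1, q.1.2), p.2.1, q.2.2.1, hb⟩, p.1.2 q.1.1, ha, fun c d => commutator_eq_of ?_, fun e c => ?_,
    fun e d => ?_⟩ <;>
  refine Matrix.SpecialLinearGroup.toGL_injective (ext_mv fun x => ?_) <;>
  simp only [map_mul, mv_mul, slFam_apply, map_add, map_smul, hb, p.2.2.2, q.2.2.2, smul_eq_mul, mul_zero,
    add_zero] <;>
  module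

theorem slFam_bracket_right {p q : SLPoint n k} (ha : p.1.2 q.1.1 = 0) (hb : q.1.2 p.1.1 ≠ 0) :
    (slFam n k).Bracket p q := by
  refine ⟨⟨(q.1.1, p.1.2), q.2.1, p.2.2.1, ha⟩, -q.1.2 p.1.1, neg_ne_zero.2 hb, fun c d => commutator_eq_of ?_,
    fun e c => ?_, fun e d => ?_⟩ <;>
  refine Matrix.SpecialLinearGroup.toGL_injective (ext_mv fun x => ?_) <;>
  simp only [map_mul, mv_mul, slFam_apply, map_add, map_smul, ha, p.2.2.2, q.2.2.2, smul_eq_mul, mul_zero,
    add_zero] <;>
  module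

theorem slFam_pair (p q : SLPoint n k) :
    (slFam n k).Comm p q ∨ (slFam n k).Linked p q ∨ (slFam n k).Bracket p q := by
  by_cases ha : p.1.2 q.1.1 = 0 <;> by_cases hb : q.1.2 p.1.1 = 0
  · exact Or.inl (slFam_comm ha hb)
  · exact Or.inr (Or.inr (slFam_bracket_right ha hb))
  · exact Or.inr (Or.inr (slFam_bracket_left ha hb))
  · exact Or.inr (Or.inl (slFam_linked ha hb))

theorem slFam_path (p q : SLPoint n k) :
    ∃ r, (slFam n k).Linked p r ∧ (slFam n k).Linked r q := by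
  have hev : ∀ v : Fin n → k, v ≠ 0 → ∃ χ : Module.Dual k (Fin n → k), χ v ≠ 0 := fun v hv => by
    obtain ⟨φ, -, h⟩ := exists_dual (W := (⊥ : Submodule k (Fin n → k))) (u := v) (by simpa using hv)
    exact ⟨φ, by rw [h]; exact one_ne_zero⟩
  obtain ⟨χ, h1, h2⟩ := exists_both_ne (Module.Dual.eval k _ p.1.1).toAddMonoidHom
    (Module.Dual.eval k _ q.1.1).toAddMonoidHom (hev _ p.2.1) (hev _ q.2.1)
  change χ p.1.1 ≠ 0 at h1
  change χ q.1.1 ≠ 0 at h2
  have hK : ∀ φ : Module.Dual k (Fin n → k), φ ≠ 0 → ∀ v, φ v = 0 → χ v ≠ 0 →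
      ∃ x : LinearMap.ker χ, φ x ≠ 0 := fun φ hφ v hv hχ => by
    obtain ⟨y, hy⟩ := DFunLike.ne_iff.1 hφ
    refine ⟨⟨y - (χ y / χ v) • v, LinearMap.mem_ker.2 (by simp [hχ])⟩, ?_⟩
    simpa [hv] using hy
  obtain ⟨⟨x, hx⟩, h3, h4⟩ := exists_both_ne (p.1.2.comp (LinearMap.ker χ).subtype).toAddMonoidHom
    (q.1.2.comp (LinearMap.ker χ).subtype).toAddMonoidHom (hK _ p.2.2.1 _ p.2.2.2 h1) (hK _ q.2.2.1 _ q.2.2.2 h2)
  change p.1.2 x ≠ 0 at h3
  change q.1.2 x ≠ 0 at h4
  exact ⟨⟨(x, χ), fun h => h3 (by rw [show x = 0 from h, map_zero]), fun h => h1 (by rw [show χ = 0 from h]; rfl), hx⟩,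
    slFam_linked h3 h1, slFam_linked h2 h4⟩

end SL

/-! ### The symplectic group -/

section Sp

variable {m : ℕ}

/-- The inclusion of the symplectic group. -/
noncomputable def spEmb (m : ℕ) (k : Type*) [Field k] :
    Matrix.symplecticGroup (Fin m) k →* GL (Fin m ⊕ Fin m) k :=
  (Matrix.symplecticGroup (Fin m) k).subtype.toHomUnits

theorem spEmb_injective : Function.Injective (spEmb m k) := fun _ _ h =>
  Subtype.ext (congrArg Units.val h)

theorem sympForm_mulVec (A : Matrix (Fin m ⊕ Fin m) (Fin m ⊕ Fin m) k) (x y : Fin m ⊕ Fin m → k) :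
    Cfsg.sympForm m k (A *ᵥ x) (A *ᵥ y) = x ⬝ᵥ ((Aᵀ * Matrix.J (Fin m) k * A) *ᵥ y) := by
  rw [Cfsg.sympForm, ← Matrix.mulVec_mulVec, ← Matrix.mulVec_mulVec, Matrix.dotProduct_mulVec x Aᵀ,
    Matrix.vecMul_transpose]

theorem mem_symplectic_of {A : Matrix (Fin m ⊕ Fin m) (Fin m ⊕ Fin m) k}
    (h : ∀ x y, Cfsg.sympForm m k (A *ᵥ x) (A *ᵥ y) = Cfsg.sympForm m k x y) :
    A ∈ Matrix.symplecticGroup (Fin m) k := by
  refine SymplecticGroup.mem_iff'.2 (Matrix.ext fun i j => ?_)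
  have h1 := h (Pi.single i 1) (Pi.single j 1)
  rw [sympForm_mulVec, Cfsg.sympForm, single_one_dotProduct, single_one_dotProduct, Matrix.mulVec_single_one,
    Matrix.mulVec_single_one] at h1
  simpa using h1

theorem spEmb_preserves (g : Matrix.symplecticGroup (Fin m) k) (x y : Fin m ⊕ Fin m → k) :
    Cfsg.sympForm m k (mv (spEmb m k g) x) (mv (spEmb m k g) y) = Cfsg.sympForm m k x y := by
  show Cfsg.sympForm m k ((g : Matrix _ _ k) *ᵥ x) ((g : Matrix _ _ k) *ᵥ y) = _
  rw [sympForm_mulVec, SymplecticGroup.mem_iff'.1 g.2]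
  rfl

/-- The symplectic transvection subgroups. -/
noncomputable def spFam (m : ℕ) (k : Type*) [Field k] :
    Fam (Matrix.symplecticGroup (Fin m) k) k {p : Fin m ⊕ Fin m → k // p ≠ 0} where
  T p c := ⟨((stv (sympForm_isSymplectic m k) p.1 c : GL (Fin m ⊕ Fin m) k) : Matrix _ _ k),
    mem_symplectic_of fun x y => stv_mem (sympForm_isSymplectic m k) p.1 c x y⟩
  add p a b := Subtype.ext (congrArg Units.val (stv_add (sympForm_isSymplectic m k) p.1 a b).symm)
  ne p h := by
    obtain ⟨x, hx⟩ := ((sympForm_isSymplectic m k).nondegenerate p.1 p.2).1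
    have h1 : mv (stv (sympForm_isSymplectic m k) p.1 1) x = x := by
      have hmat : ((stv (sympForm_isSymplectic m k) p.1 1 : GL (Fin m ⊕ Fin m) k) :
          Matrix (Fin m ⊕ Fin m) (Fin m ⊕ Fin m) k) = 1 := congrArg Subtype.val h
      rw [mv, hmat, Matrix.one_mulVec]
    rw [mv_stv, add_eq_left, smul_eq_zero, one_mul] at h1
    exact h1.elim hx p.2

theorem spFam_apply (p : {p : Fin m ⊕ Fin m → k // p ≠ 0}) (c : k) :
    spEmb m k ((spFam m k).T p c) = stv (sympForm_isSymplectic m k) p.1 c :=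
  Units.ext rfl

theorem spFam_conj (g : Matrix.symplecticGroup (Fin m) k) (p : {p : Fin m ⊕ Fin m → k // p ≠ 0}) :
    ∃ q, Cfsg.conjBy ((spFam m k).grp p) g = (spFam m k).grp q := by
  refine ⟨⟨mv (spEmb m k g) p.1, fun h => p.2 (mv_inj _ (by rw [mv_zero]; exact h))⟩, ?_⟩
  have key : ∀ c, g * (spFam m k).T p c * g⁻¹ =
      (spFam m k).T ⟨mv (spEmb m k g) p.1, fun h => p.2 (mv_inj _ (by rw [mv_zero]; exact h))⟩ c := fun c =>
    spEmb_injective (by
      rw [map_mul, map_mul, map_inv, spFam_apply, spFam_apply,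
        stv_conj (sympForm_isSymplectic m k) (μ := 1) one_ne_zero
          (fun x y => by rw [one_mul]; exact spEmb_preserves g x y), div_one])
  ext x
  constructor
  · rintro ⟨_, ⟨c, rfl⟩, rfl⟩
    exact ⟨c, (key c).symm⟩
  · rintro ⟨c, rfl⟩
    exact ⟨_, ⟨c, rfl⟩, key c⟩

theorem spFam_gen (H : Subgroup (Matrix.symplecticGroup (Fin m) k)) (h : ∀ p c, (spFam m k).T p c ∈ H) :
    H = ⊤ := by
  refine eq_top_iff.2 fun g _ => ?_
  have hle := preserving_le (sympForm_isSymplectic m k) (M := H.map (spEmb m k)) fun v c => by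
    by_cases h0 : v = 0
    · refine ⟨1, H.one_mem, ext_mv fun x => ?_⟩
      rw [map_one, mv_one, mv_stv, h0, smul_zero, add_zero]
    · exact ⟨_, h ⟨v, h0⟩ c, spFam_apply _ c⟩
  obtain ⟨g', hg', he⟩ := hle (show spEmb m k g ∈ preserving (Units.coeHom (Matrix _ _ k)) (Cfsg.sympForm m k) from
    spEmb_preserves g)
  rwa [← spEmb_injective he]

theorem spFam_linked {p q : {p : Fin m ⊕ Fin m → k // p ≠ 0}} (h : Cfsg.sympForm m k p.1 q.1 ≠ 0) :
    (spFam m k).Linked p q := by
  have hf := sympForm_isSymplectic m k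
  have h' : Cfsg.sympForm m k q.1 p.1 ≠ 0 := fun h0 => h (by rw [hf.skew, h0, neg_zero])
  refine (spFam m k).linked_of_lift (spEmb m k) spEmb_injective
    (planeHom (v := p.1) (w := q.1) (α := (Cfsg.sympForm m k p.1 q.1)⁻¹ • formR hf q.1)
      (β := (Cfsg.sympForm m k q.1 p.1)⁻¹ • formR hf p.1)
      (by simp [formR_apply, h]) (by simp [formR_apply, hf.alternating]) (by simp [formR_apply, hf.alternating])
      (by simp [formR_apply, h']))
    (planeHom_injective _ _ _ _) (inv_ne_zero h') (inv_ne_zero h) (fun c => ext_mv fun x => ?_)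
    fun c => ext_mv fun x => ?_
  · rw [planeHom_upper, spFam_apply, mv_stv, LinearMap.smul_apply, formR_apply, smul_eq_mul]; ring_nf
  · rw [planeHom_lower, spFam_apply, mv_stv, LinearMap.smul_apply, formR_apply, smul_eq_mul]; ring_nf

theorem spFam_pair (p q : {p : Fin m ⊕ Fin m → k // p ≠ 0}) : (spFam m k).Comm p q ∨ (spFam m k).Linked p q := by
  have hf := sympForm_isSymplectic m k
  by_cases h : Cfsg.sympForm m k p.1 q.1 = 0
  · refine Or.inl fun c d => spEmb_injective (ext_mv fun x => ?_)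
    simp only [map_mul, spFam_apply, mv_mul, mv_stv, hf.bilinear.add_left, hf.bilinear.smul_left, h,
      (f_eq_zero_comm hf).1 h, mul_zero, add_zero]
    module
  · exact Or.inr (spFam_linked h)

theorem spFam_path (p q : {p : Fin m ⊕ Fin m → k // p ≠ 0}) :
    ∃ r, (spFam m k).Linked p r ∧ (spFam m k).Linked r q := by
  have hf := sympForm_isSymplectic m k
  obtain ⟨x, h1, h2⟩ := exists_both_ne (formR hf p.1).toAddMonoidHom (formR hf q.1).toAddMonoidHom
    (hf.nondegenerate p.1 p.2).1 (hf.nondegenerate q.1 q.2).1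
  change Cfsg.sympForm m k x p.1 ≠ 0 at h1
  change Cfsg.sympForm m k x q.1 ≠ 0 at h2
  exact ⟨⟨x, fun h => h1 (by rw [h]; exact f_zero_left hf _)⟩,
    spFam_linked (fun h => h1 ((f_eq_zero_comm hf).1 h)), spFam_linked h2⟩

end Sp

end Cfsg.Agent.RootClass
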