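/-
Siegel transvection subgroups attached to singular lines, as root subgroups.
-/
import Cfsg.Agent.Lib.RootClass.Linear
import Cfsg.Agent.Lib.Transvec.QuadGen
import Cfsg.Agent.Lib.AutPOmega.Forms
set_option autoImplicit false

namespace Cfsg.Agent.RootClass

open Cfsg.Agent.Timmesfeld Cfsg.Agent.Transvec Cfsg.Agent.Transvec.Orth
open Matrix

section Transfer

variable {G : Type*} [Group G] {k : Type*} [Field k] {P : Type*} (R : Fam G k P)

/-- The two members have the same elements, up to scaling. -/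
def Fam.Same (p p' : P) : Prop := ∃ δ : k, δ ≠ 0 ∧ ∀ c, R.T p c = R.T p' (δ * c)

theorem Fam.Comm.transfer {p p' q q' : P} (hp : R.Same p p') (hq : R.Same q q') (h : R.Comm p' q') :
    R.Comm p q := by
  obtain ⟨δ, -, h1⟩ := hp
  obtain ⟨η, -, h2⟩ := hq
  exact fun c d => by rw [h1, h2]; exact h _ _

theorem Fam.Bracket.transfer {p p' q q' : P} (hp : R.Same p p') (hq : R.Same q q') (h : R.Bracket p' q') :
    R.Bracket p q := by
  obtain ⟨δ, hδ, h1⟩ := hp
  obtain ⟨η, hη, h2⟩ := hq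
  obtain ⟨r, κ, hκ, hc, ha, hb⟩ := h
  exact ⟨r, κ * (δ * η), mul_ne_zero hκ (mul_ne_zero hδ hη),
    fun c d => by rw [h1, h2, hc]; congr 1; ring, fun e c => by rw [h1, ha], fun e d => by rw [h2, hb]⟩

end Transfer

variable {ι : Type} [Fintype ι] [DecidableEq ι] {F : Type*} [Field F] {Q : (ι → F) → F}

/-- Bases of singular lines. -/
abbrev LinePoint (Q : (ι → F) → F) : Type _ :=
  {z : (ι → F) × (ι → F) // LinearIndependent F ![z.1, z.2] ∧ Q z.1 = 0 ∧ Q z.2 = 0 ∧ pol Q z.1 z.2 = 0}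

variable {G : Type*} [Group G] (emb : G →* GL ι F) (hemb : Function.Injective emb) (R : Fam G F (LinePoint Q))
variable (hR : ∀ (l : LinePoint Q) c (x : ι → F),
  mv (emb (R.T l c)) x = x + c • (pol Q x l.1.1 • l.1.2 - pol Q x l.1.2 • l.1.1))
variable (hQ : Geo.IsNondegenerateQuadraticForm Q)
include hemb hR hQ

theorem line_rebase (l : LinePoint Q) {x y z w : F} (h : x * w - y * z ≠ 0) :
    ∃ l' : LinePoint Q, l'.1 = (x • l.1.1 + y • l.1.2, z • l.1.1 + w • l.1.2) ∧ R.Same l l' := by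
  obtain ⟨hli, h1, h2, h12⟩ := l.2
  have h21 : pol Q l.1.2 l.1.1 = 0 := (pol_comm _ _).trans h12
  have hs : ∀ a b : F, Q (a • l.1.1 + b • l.1.2) = 0 := fun a b => by
    rw [q_add hQ, q_smul hQ, q_smul hQ, pol_smul_left hQ, pol_smul_right hQ, h1, h2, h12]; ring
  refine ⟨⟨(x • l.1.1 + y • l.1.2, z • l.1.1 + w • l.1.2), ?_, hs x y, hs z w, ?_⟩, rfl, ?_⟩
  · rw [LinearIndependent.pair_iff]
    intro s t hst
    obtain ⟨e1, e2⟩ := LinearIndependent.pair_iff.1 hli (s * x + t * z) (s * y + t * w) (by rw [← hst]; module)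
    exact ⟨(mul_eq_zero.1 (show s * (x * w - y * z) = 0 by linear_combination w * e1 - z * e2)).resolve_right h,
      (mul_eq_zero.1 (show t * (x * w - y * z) = 0 by linear_combination x * e2 - y * e1)).resolve_right h⟩
  · simp only [pol_add_left hQ, pol_add_right hQ, pol_smul_left hQ, pol_smul_right hQ, pol_self hQ, h1, h2, h12,
      h21]
    ring
  · refine ⟨(x * w - y * z)⁻¹, inv_ne_zero h, fun c => hemb (ext_mv fun v => ?_)⟩
    rw [hR, hR]
    simp only [pol_add_right hQ, pol_smul_right hQ]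
    match_scalars <;> field_simp <;> ring

theorem line_linked (l m : LinePoint Q)
    (h : pol Q l.1.1 m.1.1 * pol Q l.1.2 m.1.2 - pol Q l.1.1 m.1.2 * pol Q l.1.2 m.1.1 ≠ 0) : R.Linked l m := by
  obtain ⟨hli, hp, hr, hpr⟩ := l.2
  obtain ⟨-, hp', hr', hpr'⟩ := m.2
  set a := pol Q l.1.1 m.1.1 with ha
  set b := pol Q l.1.1 m.1.2 with hb
  set c := pol Q l.1.2 m.1.1 with hc
  set d := pol Q l.1.2 m.1.2 with hd
  set δ := a * d - b * c with hδ
  set p := l.1.1
  set r := l.1.2
  set u := (d / δ) • m.1.1 - (c / δ) • m.1.2 with hu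
  set v := (a / δ) • m.1.2 - (b / δ) • m.1.1 with hv
  have pu : pol Q p u = 1 := by
    rw [hu, pol_sub_right hQ, pol_smul_right hQ, pol_smul_right hQ, ← ha, ← hb]
    field_simp; rw [hδ]; ring
  have ru : pol Q r u = 0 := by
    rw [hu, pol_sub_right hQ, pol_smul_right hQ, pol_smul_right hQ, ← hc, ← hd]; ring
  have pv : pol Q p v = 0 := by
    rw [hv, pol_sub_right hQ, pol_smul_right hQ, pol_smul_right hQ, ← ha, ← hb]; ring
  have rv : pol Q r v = 1 := by
    rw [hv, pol_sub_right hQ, pol_smul_right hQ, pol_smul_right hQ, ← hc, ← hd]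
    field_simp; rw [hδ]
  have up : pol Q u p = 1 := (pol_comm _ _).trans pu
  have ur : pol Q u r = 0 := (pol_comm _ _).trans ru
  have vp : pol Q v p = 0 := (pol_comm _ _).trans pv
  have vr : pol Q v r = 1 := (pol_comm _ _).trans rv
  have rp : pol Q r p = 0 := (pol_comm _ _).trans hpr
  have pp : pol Q p p = 0 := by rw [pol_self hQ, hp, mul_zero]
  have rr : pol Q r r = 0 := by rw [pol_self hQ, hr, mul_zero]
  have hmm : pol Q m.1.1 m.1.1 = 0 ∧ pol Q m.1.2 m.1.2 = 0 ∧ pol Q m.1.2 m.1.1 = 0 :=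
    ⟨by rw [pol_self hQ, hp', mul_zero], by rw [pol_self hQ, hr', mul_zero], (pol_comm _ _).trans hpr'⟩
  have uu : pol Q u u = 0 := by
    simp only [hu, pol_sub_left hQ, pol_sub_right hQ, pol_smul_left hQ, pol_smul_right hQ, hmm, hpr']; ring
  have vv : pol Q v v = 0 := by
    simp only [hv, pol_sub_left hQ, pol_sub_right hQ, pol_smul_left hQ, pol_smul_right hQ, hmm, hpr']; ring
  have uv : pol Q u v = 0 := by
    simp only [hu, hv, pol_sub_left hQ, pol_sub_right hQ, pol_smul_left hQ, pol_smul_right hQ, hmm, hpr']; ring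
  have vu : pol Q v u = 0 := (pol_comm _ _).trans uv
  have q1 : formQ hQ v r = 1 := by rw [formQ_apply, rv]
  have q2 : formQ hQ v u = 0 := by rw [formQ_apply, uv]
  have q3 : formQ hQ p r = 0 := by rw [formQ_apply, rp]
  have q4 : formQ hQ p u = 1 := by rw [formQ_apply, up]
  have q5 : (-formQ hQ u) (-p) = 1 := by rw [LinearMap.neg_apply, formQ_apply, pol_neg_left hQ, pu, neg_neg]
  have q6 : (-formQ hQ u) v = 0 := by rw [LinearMap.neg_apply, formQ_apply, vu, neg_zero]
  have q7 : formQ hQ r (-p) = 0 := by rw [formQ_apply, pol_neg_left hQ, hpr, neg_zero]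
  have q8 : formQ hQ r v = 1 := by rw [formQ_apply, vr]
  let ψ₁ := planeHom q1 q2 q3 q4
  let ψ₂ := planeHom q5 q6 q7 q8
  have hcom : ∀ g h, ψ₁ g * ψ₂ h = ψ₂ h * ψ₁ g := fun g h => ext_mv fun x => by
    simp only [ψ₁, ψ₂, mv_mul, mv_planeHom, planeMap_apply, LinearMap.neg_apply, formQ_apply, pol_add_left hQ,
      pol_smul_left hQ, pol_neg_left hQ, pv, pp, vv, vp, ru, rr, uu, ur]
    module
  let ψ : Matrix.SpecialLinearGroup (Fin 2) F →* GL ι F := MonoidHom.mk' (fun g => ψ₁ g * ψ₂ g) fun g h => by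
    rw [map_mul, map_mul, mul_assoc (ψ₁ g), ← mul_assoc (ψ₁ h), hcom, mul_assoc, mul_assoc]
  have hψ : Function.Injective ψ := by
    rw [injective_iff_map_eq_one]
    intro g hg
    refine planeHom_injective q1 q2 q3 q4 ?_
    show ψ₁ g = ψ₁ 1
    have h1 : ∀ z, pol Q z u = 0 → pol Q z r = 0 → mv (ψ₁ g) z = z := fun z z1 z2 => by
      have h2 : mv (ψ₂ g) z = z := by
        simp only [ψ₂, mv_planeHom, planeMap_apply, LinearMap.neg_apply, formQ_apply, z1, z2]; simp
      conv_lhs => rw [← h2, ← mv_mul, show ψ₁ g * ψ₂ g = ψ g from rfl, hg, mv_one]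
    have e1 := h1 r ru rr
    have e2 := h1 u uu ur
    rw [map_one]
    refine ext_mv fun x => ?_
    simp only [ψ₁, mv_planeHom, planeMap_apply, formQ_apply, rv, rp, uv, up, mul_one, mul_zero, add_zero, zero_add,
      mv_one] at e1 e2 ⊢
    linear_combination (norm := module) pol Q x v • e1 + pol Q x p • e2
  refine R.linked_of_lift emb hemb ψ hψ one_ne_zero (neg_ne_zero.2 (inv_ne_zero h)) (fun e => ext_mv fun x => ?_)
    fun e => ext_mv fun x => ?_
  · rw [one_mul, hR]
    simp only [ψ, MonoidHom.mk'_apply, mv_mul, ψ₁, ψ₂, planeHom_upper, formQ_apply, pol_add_left hQ, pol_smul_left hQ,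
      pol_neg_left hQ, rp, pp, pol_neg_left hQ, hpr, mul_zero, neg_zero, add_zero]
    module
  · rw [hR]
    simp only [ψ, MonoidHom.mk'_apply, mv_mul, ψ₁, ψ₂, planeHom_lower, LinearMap.neg_apply, formQ_apply,
      pol_add_left hQ, pol_smul_left hQ, vv, uv, mul_zero, neg_zero, add_zero]
    simp only [hu, hv, pol_sub_right hQ, pol_smul_right hQ]
    match_scalars <;> field_simp <;> (try rw [hδ]) <;> ring

theorem line_pair (l m : LinePoint Q) : R.Comm l m ∨ R.Linked l m ∨ R.Bracket l m := by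
  set a := pol Q l.1.1 m.1.1 with ha
  set b := pol Q l.1.1 m.1.2 with hb
  set c := pol Q l.1.2 m.1.1 with hc
  set d := pol Q l.1.2 m.1.2 with hd
  by_cases hdet : a * d - b * c = 0
  swap
  · exact Or.inr (Or.inl (line_linked emb hemb R hR hQ l m hdet))
  suffices R.Comm l m ∨ R.Bracket l m from this.imp_right Or.inr
  have complete : ∀ x y : F, x ≠ 0 ∨ y ≠ 0 → ∃ z w, x * w - y * z ≠ 0 := fun x y h => by
    rcases h with h | h
    · exact ⟨0, 1, by simpa using h⟩
    · exact ⟨1, 0, by simpa using h⟩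
  obtain ⟨x, y, hxy, hxa, hxb⟩ : ∃ x y : F, (x ≠ 0 ∨ y ≠ 0) ∧ x * a + y * c = 0 ∧ x * b + y * d = 0 := by
    by_cases h : d = 0 ∧ b = 0
    · by_cases h' : c = 0 ∧ a = 0
      · exact ⟨1, 0, Or.inl one_ne_zero, by rw [h'.2]; ring, by rw [h.2]; ring⟩
      · refine ⟨c, -a, ?_, by ring, by rw [h.2, h.1]; ring⟩
        by_contra hh
        push Not at hh
        exact h' ⟨hh.1, neg_eq_zero.1 hh.2⟩
    · refine ⟨d, -b, ?_, by linear_combination hdet, by ring⟩
      by_contra hh
      push Not at hh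
      exact h ⟨hh.1, neg_eq_zero.1 hh.2⟩
  obtain ⟨x', y', hxy', hxa', hxc'⟩ : ∃ x y : F, (x ≠ 0 ∨ y ≠ 0) ∧ x * a + y * b = 0 ∧ x * c + y * d = 0 := by
    by_cases h : d = 0 ∧ c = 0
    · by_cases h' : b = 0 ∧ a = 0
      · exact ⟨1, 0, Or.inl one_ne_zero, by rw [h'.2]; ring, by rw [h.2]; ring⟩
      · refine ⟨b, -a, ?_, by ring, by rw [h.2, h.1]; ring⟩
        by_contra hh
        push Not at hh
        exact h' ⟨hh.1, neg_eq_zero.1 hh.2⟩
    · refine ⟨d, -c, ?_, by linear_combination hdet, by ring⟩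
      by_contra hh
      push Not at hh
      exact h ⟨hh.1, neg_eq_zero.1 hh.2⟩
  obtain ⟨z, w, hzw⟩ := complete x y hxy
  obtain ⟨z', w', hzw'⟩ := complete x' y' hxy'
  obtain ⟨l', hl', hsl⟩ := line_rebase emb hemb R hR hQ l hzw
  obtain ⟨m', hm', hsm⟩ := line_rebase emb hemb R hR hQ m hzw'
  have e11 : pol Q l'.1.1 m'.1.1 = 0 := by
    simp only [hl', hm', pol_add_left hQ, pol_add_right hQ, pol_smul_left hQ, pol_smul_right hQ, ← ha, ← hb, ← hc,
      ← hd]
    linear_combination x' * hxa + y' * hxb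
  have e12 : pol Q l'.1.1 m'.1.2 = 0 := by
    simp only [hl', hm', pol_add_left hQ, pol_add_right hQ, pol_smul_left hQ, pol_smul_right hQ, ← ha, ← hb, ← hc,
      ← hd]
    linear_combination z' * hxa + w' * hxb
  have e21 : pol Q l'.1.2 m'.1.1 = 0 := by
    simp only [hl', hm', pol_add_left hQ, pol_add_right hQ, pol_smul_left hQ, pol_smul_right hQ, ← ha, ← hb, ← hc,
      ← hd]
    linear_combination z * hxa' + w * hxc'
  suffices R.Comm l' m' ∨ R.Bracket l' m' from
    this.imp (Fam.Comm.transfer R hsl hsm) (Fam.Bracket.transfer R hsl hsm)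
  obtain ⟨hli, hp, hr, hpr⟩ := l'.2
  obtain ⟨hli', hp', hr', hpr'⟩ := m'.2
  set p := l'.1.1 with hpdef
  set r := l'.1.2 with hrdef
  set p' := m'.1.1 with hp'def
  set r' := m'.1.2 with hr'def
  have pp : pol Q p p = 0 := by rw [pol_self hQ, hp, mul_zero]
  have pp2 : pol Q p' p' = 0 := by rw [pol_self hQ, hp', mul_zero]
  have f11 : pol Q p' p = 0 := (pol_comm _ _).trans e11
  have f12 : pol Q r' p = 0 := (pol_comm _ _).trans e12
  have f21 : pol Q p' r = 0 := (pol_comm _ _).trans e21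
  have f22 : pol Q r' r = pol Q r r' := pol_comm _ _
  have rp : pol Q r p = 0 := (pol_comm _ _).trans hpr
  have rp' : pol Q r' p' = 0 := (pol_comm _ _).trans hpr'
  by_cases hκ : pol Q r r' = 0
  · refine Or.inl fun c d => hemb (ext_mv fun v => ?_)
    simp only [map_mul, mv_mul, hR, ← hpdef, ← hrdef, ← hp'def, ← hr'def, pol_add_left hQ, pol_smul_left hQ,
      pol_sub_left hQ, f11, f12, f21, f22, e11, e12, e21, hκ]
    module
  by_cases hind : LinearIndependent F ![p, p']
  · refine Or.inr ⟨⟨(p, p'), hind, hp, hp', e11⟩, pol Q r r', hκ, fun c d => commutator_eq_of ?_, fun e c => ?_,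
      fun e d => ?_⟩ <;>
    refine hemb (ext_mv fun v => ?_) <;>
    simp only [map_mul, mv_mul, hR, ← hpdef, ← hrdef, ← hp'def, ← hr'def, pol_add_left hQ, pol_smul_left hQ,
      pol_sub_left hQ, pp, pp2, f11, f12, f21, f22, e11, e12, e21, rp, rp', hpr, hpr'] <;>
    module
  · obtain ⟨s, hs⟩ : ∃ s : F, p' = s • p := by
      rw [LinearIndependent.pair_iff] at hind
      push Not at hind
      obtain ⟨s, t, hst, hne⟩ := hind
      have ht : t ≠ 0 := fun ht => by
        rw [ht, zero_smul, add_zero, smul_eq_zero] at hst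
        rcases hst with h0 | h0
        · exact hne h0 ht
        · exact hli.ne_zero 0 h0
      refine ⟨-(s / t), ?_⟩
      rw [eq_comm, ← smul_right_inj ht, smul_smul]
      linear_combination (norm := (match_scalars <;> field_simp <;> ring)) -hst
    refine Or.inl fun c d => hemb (ext_mv fun v => ?_)
    simp only [map_mul, mv_mul, hR, ← hpdef, ← hrdef, ← hr'def, ← hp'def, hs, pol_add_left hQ, pol_smul_left hQ,
      pol_smul_right hQ, pol_sub_left hQ, pp, f12, f22, e12, rp, hpr]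
    module

/-- Lines through a common point have a common opposite line. -/
theorem line_common (h6 : 6 ≤ Fintype.card ι) (l m : LinePoint Q) (hlm : l.1.1 = m.1.1) :
    ∃ n, R.Linked l n ∧ R.Linked n m := by
  obtain ⟨hli, hp, hr, hpr⟩ := l.2
  obtain ⟨hli', -, hr', hpr'⟩ := m.2
  rw [← hlm] at hpr'
  set p := l.1.1 with hpdef
  set r := l.1.2
  set r' := m.1.2
  have hp0 : p ≠ 0 := hli.ne_zero 0
  have hli'' : LinearIndependent F ![p, r'] := by rw [hlm]; exact hli'
  have top := nondeg_top hQ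
  obtain ⟨s, -, hs, hps⟩ := Cfsg.Agent.Transvec.Orth.exists_partner hQ top (Submodule.mem_top (x := p)) hp0 hp
  obtain ⟨hP, hP2⟩ := Cfsg.Agent.Transvec.Orth.nondeg_pair hQ hp hs hps
  set W := (⊤ : Submodule F (ι → F)) ⊓ orth hQ (Submodule.span F {p, s}) with hW
  have hWn : Nondeg Q W := Cfsg.Agent.Transvec.Orth.nondeg_inf_orth hQ hP top le_top
  have hWd := Cfsg.Agent.Transvec.Orth.finrank_inf_orth_add hQ hP le_top
  rw [hP2, finrank_top, Module.finrank_pi, ← hW] at hWd
  have pp : pol Q p p = 0 := by rw [pol_self hQ, hp, mul_zero]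
  have sp : pol Q s p = 1 := (pol_comm _ _).trans hps
  have mk : ∀ r, Q r = 0 → pol Q p r = 0 → LinearIndependent F ![p, r] →
      r - pol Q r s • p ∈ W ∧ Q (r - pol Q r s • p) = 0 ∧ r - pol Q r s • p ≠ 0 := fun r hr hpr hli => by
    refine ⟨⟨Submodule.mem_top, (mem_orth_span hQ).2 ?_⟩, ?_, fun h => ?_⟩
    · rintro u (rfl | rfl)
      · rw [pol_sub_right hQ, pol_smul_right hQ, hpr, pp]; ring
      · rw [pol_sub_right hQ, pol_smul_right hQ, sp, pol_comm]; ring
    · rw [q_sub hQ, q_smul hQ, hp, hr, pol_smul_right hQ, pol_comm r p, hpr]; ring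
    · have h1 := LinearIndependent.pair_iff.1 hli (-(pol Q r s)) 1 (by rw [one_smul, neg_smul]; linear_combination (norm := module) h)
      exact one_ne_zero h1.2
  obtain ⟨hrW, hrq, hr0⟩ := mk r hr hpr hli
  obtain ⟨hrW', hrq', hr0'⟩ := mk r' hr' hpr' hli''
  set x := r - pol Q r s • p with hx
  set x' := r' - pol Q r' s • p with hx'
  obtain ⟨t, htW, htt, htx, htx'⟩ : ∃ t ∈ W, Q t = 0 ∧ pol Q t x ≠ 0 ∧ pol Q t x' ≠ 0 := by
    by_cases hxx : pol Q x x' = 0
    · obtain ⟨d, hd, hdd, hxd⟩ := Cfsg.Agent.Transvec.Orth.exists_partner hQ hWn hrW hr0 hrq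
      obtain ⟨e, he, hee, hxe⟩ := Cfsg.Agent.Transvec.Orth.exists_partner hQ hWn hrW' hr0' hrq'
      have hdx : pol Q d x = 1 := (pol_comm _ _).trans hxd
      have hex : pol Q e x' = 1 := (pol_comm _ _).trans hxe
      by_cases hdx' : pol Q d x' = 0
      swap
      · exact ⟨d, hd, hdd, by rw [hdx]; exact one_ne_zero, hdx'⟩
      by_cases hex' : pol Q e x = 0
      swap
      · exact ⟨e, he, hee, hex', by rw [hex]; exact one_ne_zero⟩
      have xx : pol Q x x = 0 := by rw [pol_self hQ, hrq, mul_zero]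
      refine ⟨d + e - pol Q d e • x, W.sub_mem (W.add_mem hd he) (W.smul_mem _ hrW), ?_, ?_, ?_⟩
      · rw [q_sub hQ, q_add hQ, q_smul hQ, pol_add_left hQ, pol_smul_right hQ, pol_smul_right hQ, hdd, hee, hrq, hdx,
          hex']
        ring
      · simp only [pol_sub_left hQ, pol_add_left hQ, pol_smul_left hQ, xx, hdx, hex']; simp
      · simp only [pol_sub_left hQ, pol_add_left hQ, pol_smul_left hQ, hxx, hdx', hex]; simp
    · set x'' := (pol Q x x')⁻¹ • x' with hx''
      have h1 : pol Q x x'' = 1 := by rw [hx'', pol_smul_right hQ, inv_mul_cancel₀ hxx]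
      have h2 : Q x'' = 0 := by rw [hx'', q_smul hQ, hrq', mul_zero]
      obtain ⟨hR2, hR2d⟩ := Cfsg.Agent.Transvec.Orth.nondeg_pair hQ hrq h2 h1
      have hle : Submodule.span F ({x, x''} : Set (ι → F)) ≤ W := Submodule.span_le.2 (by
        rintro u (rfl | rfl)
        · exact hrW
        · exact W.smul_mem _ hrW')
      have hd := Cfsg.Agent.Transvec.Orth.finrank_inf_orth_add hQ hR2 hle
      obtain ⟨w, hw, hww⟩ := Cfsg.Agent.Transvec.Orth.exists_anisotropic hQ (Cfsg.Agent.Transvec.Orth.nondeg_inf_orth hQ hR2 hWn hle) fun h0 => by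
        rw [h0, finrank_bot, hR2d] at hd; omega
      have wx : pol Q w x = 0 := (pol_comm _ _).trans (hw.2 x (Submodule.subset_span (Set.mem_insert _ _)))
      have wx'' : pol Q w x'' = 0 :=
        (pol_comm _ _).trans (hw.2 x'' (Submodule.subset_span (Set.mem_insert_of_mem _ rfl)))
      have hx''x : pol Q x'' x = 1 := (pol_comm _ _).trans h1
      have xx : pol Q x x = 0 := by rw [pol_self hQ, hrq, mul_zero]
      have xx'' : pol Q x'' x'' = 0 := by rw [pol_self hQ, h2, mul_zero]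
      refine ⟨(-Q w) • x + x'' + w, W.add_mem (W.add_mem (W.smul_mem _ hrW) (W.smul_mem _ hrW')) hw.1, ?_, ?_, ?_⟩
      · rw [q_add hQ, q_add hQ, q_smul hQ, pol_add_left hQ, pol_smul_left hQ, pol_smul_left hQ, h1, hrq, h2,
          pol_comm x w, wx, pol_comm x'' w, wx'']
        ring
      · simp only [pol_add_left hQ, pol_smul_left hQ, xx, hx''x, wx]; simp
      · have e : pol Q ((-Q w) • x + x'' + w) x'' = -Q w := by
          simp only [pol_add_left hQ, pol_smul_left hQ, h1, xx'', wx'']; ring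
        intro h0
        rw [hx'', pol_smul_right hQ, h0, mul_zero] at e
        exact hww (neg_eq_zero.1 e.symm)
  have tp : pol Q t p = 0 := by rw [pol_comm]; exact htW.2 p (Submodule.subset_span (Set.mem_insert _ _))
  have st : pol Q s t = 0 := htW.2 s (Submodule.subset_span (Set.mem_insert_of_mem _ rfl))
  have hst : LinearIndependent F ![s, t] := by
    rw [LinearIndependent.pair_iff]
    intro a b hab
    have h1 := congrArg (fun v => pol Q v p) hab
    simp only [pol_add_left hQ, pol_smul_left hQ, sp, tp, pol_zero_left hQ] at h1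
    have ha : a = 0 := by linear_combination h1
    rw [ha, zero_smul, zero_add, smul_eq_zero] at hab
    exact ⟨ha, hab.resolve_right fun h => htx (by rw [h, pol_zero_left hQ])⟩
  have pt : pol Q p t = 0 := (pol_comm _ _).trans tp
  refine ⟨⟨(s, t), hst, hs, htt, st⟩, line_linked emb hemb R hR hQ _ _ ?_, line_linked emb hemb R hR hQ _ _ ?_⟩
  · show pol Q p s * pol Q r t - pol Q p t * pol Q r s ≠ 0
    rw [hps, pt, one_mul, zero_mul, sub_zero, pol_comm]
    simpa [hx, pol_sub_right hQ, pol_smul_right hQ, tp] using htx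
  · show pol Q s m.1.1 * pol Q t m.1.2 - pol Q s m.1.2 * pol Q t m.1.1 ≠ 0
    rw [← hlm, sp, tp, one_mul, mul_zero, sub_zero]
    simpa [hx', pol_sub_right hQ, pol_smul_right hQ, tp] using htx'

theorem line_connected (h6 : 6 ≤ Fintype.card ι) : Cfsg.IsConnectedFamily (Cfsg.FAdj R.roots) R.roots := by
  have swap : ∀ l : LinePoint Q, ∃ l' : LinePoint Q, l'.1.1 = l.1.2 ∧ R.grp l' = R.grp l := by
    intro l
    obtain ⟨l', h, δ, hδ, he⟩ := line_rebase emb hemb R hR hQ l (x := 0) (y := 1) (z := 1) (w := 0) (by simp)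
    refine ⟨l', by rw [h]; simp, ?_⟩
    ext g
    constructor
    · rintro ⟨c, rfl⟩
      exact ⟨δ⁻¹ * c, by rw [he, mul_inv_cancel_left₀ hδ]⟩
    · rintro ⟨c, rfl⟩
      exact ⟨δ * c, (he c).symm⟩
  have common : ∀ l m : LinePoint Q, l.1.1 = m.1.1 →
      Relation.ReflTransGen (Cfsg.FAdj R.roots) (R.grp l) (R.grp m) := fun l m h => by
    obtain ⟨n, h1, h2⟩ := line_common emb hemb R hR hQ h6 l m h
    exact (Relation.ReflTransGen.single ⟨⟨l, rfl⟩, ⟨n, rfl⟩, (R.linked_rankOne h1).1⟩).tail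
      ⟨⟨n, rfl⟩, ⟨m, rfl⟩, (R.linked_rankOne h2).1⟩
  rintro _ ⟨l, rfl⟩ _ ⟨m, rfl⟩
  obtain ⟨hli, hp, hr, hpr⟩ := l.2
  obtain ⟨hli', hp', -, -⟩ := m.2
  obtain ⟨x, y, hxy, horth⟩ : ∃ x y : F, (x ≠ 0 ∨ y ≠ 0) ∧ x * pol Q l.1.1 m.1.1 + y * pol Q l.1.2 m.1.1 = 0 := by
    by_cases h : pol Q l.1.1 m.1.1 = 0
    · exact ⟨1, 0, Or.inl one_ne_zero, by rw [h]; ring⟩
    · exact ⟨pol Q l.1.2 m.1.1, -pol Q l.1.1 m.1.1, Or.inr (neg_ne_zero.2 h), by ring⟩
  obtain ⟨z, w, hzw⟩ : ∃ z w, x * w - y * z ≠ 0 := by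
    rcases hxy with h | h
    · exact ⟨0, 1, by simpa using h⟩
    · exact ⟨1, 0, by simpa using h⟩
  obtain ⟨l', hl', δ, hδ, he⟩ := line_rebase emb hemb R hR hQ l hzw
  have hgrp : R.grp l = R.grp l' := by
    ext g
    constructor
    · rintro ⟨c, rfl⟩
      exact ⟨δ * c, (he c).symm⟩
    · rintro ⟨c, rfl⟩
      exact ⟨δ⁻¹ * c, by rw [he, mul_inv_cancel_left₀ hδ]⟩
  rw [hgrp]
  set u := l'.1.1 with hu
  have hum : pol Q u m.1.1 = 0 := by
    rw [hu, hl', pol_add_left hQ, pol_smul_left hQ, pol_smul_left hQ]; exact horth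
  by_cases hind : LinearIndependent F ![u, m.1.1]
  · let k₁ : LinePoint Q := ⟨(u, m.1.1), hind, l'.2.2.1, hp', hum⟩
    obtain ⟨k₂, hk₂, hk⟩ := swap k₁
    exact (common l' k₁ rfl).trans (hk ▸ common k₂ m hk₂)
  · obtain ⟨s, hs⟩ : ∃ s : F, u = s • m.1.1 := by
      rw [LinearIndependent.pair_iff] at hind
      push Not at hind
      obtain ⟨s, t, hst, hne⟩ := hind
      have hs : s ≠ 0 := fun hs => by
        rw [hs, zero_smul, zero_add, smul_eq_zero] at hst
        rcases hst with h0 | h0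
        · exact hne hs h0
        · exact hli'.ne_zero 0 h0
      refine ⟨-(t / s), ?_⟩
      rw [← smul_right_inj hs, smul_smul]
      linear_combination (norm := (match_scalars <;> field_simp <;> ring)) hst
    have hs0 : s ≠ 0 := fun h => l'.2.1.ne_zero 0 (show u = 0 by rw [hs, h, zero_smul])
    obtain ⟨m', hm', η, hη, he'⟩ := line_rebase emb hemb R hR hQ m (x := s) (y := 0) (z := 0) (w := 1) (by simpa using hs0)
    have hgrp' : R.grp m = R.grp m' := by
      ext g
      constructor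
      · rintro ⟨c, rfl⟩
        exact ⟨η * c, (he' c).symm⟩
      · rintro ⟨c, rfl⟩
        exact ⟨η⁻¹ * c, by rw [he', mul_inv_cancel_left₀ hη]⟩
    rw [hgrp']
    exact common l' m' (by rw [hm', ← hu, hs]; simp)

end Cfsg.Agent.RootClass

namespace Cfsg.Agent.RootClass

open Cfsg.Agent.Transvec Cfsg.Agent.Transvec.Orth
open Matrix

variable (F : Type*) [Field F] (m : ℕ)

/-- The Siegel transvection groups of singular lines in the hyperbolic space. -/
def siegelMembers : Set (Subgroup ↥(Cfsg.isometryGroup F (Cfsg.quadFormPlus (m + 3) F))) :=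
  {A | ∃ p r : Fin (m + 3) ⊕ Fin (m + 3) → F, LinearIndependent F ![p, r] ∧
    Cfsg.quadFormPlus (m + 3) F p = 0 ∧ Cfsg.quadFormPlus (m + 3) F r = 0 ∧
    Cfsg.quadFormPlus (m + 3) F (p + r) = 0 ∧
    A = Subgroup.closure {σ : ↥(Cfsg.isometryGroup F (Cfsg.quadFormPlus (m + 3) F)) | ∀ v : Fin (m + 3) ⊕ Fin (m + 3) → F,
      Cfsg.quadFormPlus (m + 3) F (v + p) - Cfsg.quadFormPlus (m + 3) F v - Cfsg.quadFormPlus (m + 3) F p = 0 →
      Cfsg.quadFormPlus (m + 3) F (v + r) - Cfsg.quadFormPlus (m + 3) F v - Cfsg.quadFormPlus (m + 3) F r = 0 →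
        ((σ : Matrix.GeneralLinearGroup (Fin (m + 3) ⊕ Fin (m + 3)) F) : Matrix (Fin (m + 3) ⊕ Fin (m + 3)) (Fin (m + 3) ⊕ Fin (m + 3)) F) *ᵥ v = v}}

theorem siegel_root_set :
    Cfsg.IsKRootSubgroupSet F ((fun A : Subgroup ↥(Cfsg.isometryGroup F (Cfsg.quadFormPlus (m + 3) F)) =>
        A.subgroupOf (⨆ B ∈ siegelMembers F m, B)) '' siegelMembers F m) ∧
      Cfsg.IsConnectedFamily (Cfsg.FAdj (siegelMembers F m)) (siegelMembers F m) := by
  classical
  set Q := Cfsg.quadFormPlus (m + 3) F with hQdef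
  have hQ : Geo.IsNondegenerateQuadraticForm Q := Cfsg.Agent.AutPOmega.geo_plus (F := F) (m + 3)
  set O := Cfsg.isometryGroup F Q with hO
  set G₀ := ⨆ B ∈ siegelMembers F m, B with hG₀
  have hex : ∀ (l : LinePoint Q) (c : F), ∃ g : O, ∀ x, mv (g : GL _ F) x =
      x + c • (pol Q x l.1.1 • l.1.2 - pol Q x l.1.2 • l.1.1) := fun l c => by
    obtain ⟨g, hg, hgs⟩ := Cfsg.Agent.Transvec.Orth.exists_siegel hQ (u := l.1.1) (y := c • l.1.2) l.2.2.1
      (by rw [pol_smul_right hQ, l.2.2.2.2, mul_zero])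
    refine ⟨⟨g, hg⟩, fun x => ?_⟩
    rw [hgs, q_smul hQ, l.2.2.2.1, pol_smul_right hQ]
    module
  choose T hT using hex
  let R : Fam O F (LinePoint Q) :=
    { T := T
      add := fun l a b => Subtype.ext (ext_mv fun x => by
        have e11 : pol Q l.1.1 l.1.1 = 0 := by rw [pol_self hQ, l.2.2.1, mul_zero]
        have e22 : pol Q l.1.2 l.1.2 = 0 := by rw [pol_self hQ, l.2.2.2.1, mul_zero]
        have e21 : pol Q l.1.2 l.1.1 = 0 := (pol_comm _ _).trans l.2.2.2.2
        rw [Subgroup.coe_mul, mv_mul, hT, hT, hT]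
        simp only [pol_add_left hQ, pol_smul_left hQ, pol_sub_left hQ, e11, e22, e21, l.2.2.2.2]
        module)
      ne := fun l h => by
        obtain ⟨z, hz⟩ := ((hQ.nondegenerate l.1.1 (l.2.1.ne_zero 0))).1
        have h1 := hT l 1 z
        rw [h, Subgroup.coe_one, mv_one, left_eq_add, one_smul] at h1
        have h2 := LinearIndependent.pair_iff.1 l.2.1 (-(pol Q z l.1.2)) (pol Q z l.1.1)
          (by rw [← h1]; module)
        exact hz h2.2 }
  have hR : ∀ (l : LinePoint Q) c x, mv (O.subtype (R.T l c)) x =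
      x + c • (pol Q x l.1.1 • l.1.2 - pol Q x l.1.2 • l.1.1) := hT
  have hmem : ∀ (p r : Fin (m + 3) ⊕ Fin (m + 3) → F) (hl : LinearIndependent F ![p, r] ∧ Q p = 0 ∧ Q r = 0 ∧
      pol Q p r = 0),
      Subgroup.closure {σ : O | ∀ v : Fin (m + 3) ⊕ Fin (m + 3) → F, pol Q v p = 0 → pol Q v r = 0 →
        mv (σ : GL _ F) v = v} = R.grp ⟨(p, r), hl⟩ := by
    intro p r hl
    refine le_antisymm ((Subgroup.closure_le _).2 fun g hg => ?_) ?_
    · obtain ⟨hli, hp, hr, hpr⟩ := hl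
      have hp0 : p ≠ 0 := hli.ne_zero 0
      have hr0 : r ≠ 0 := hli.ne_zero 1
      have hnot : p ∉ Submodule.span F {r} := fun hmem => by
        obtain ⟨a, ha⟩ := Submodule.mem_span_singleton.1 hmem
        have := (LinearIndependent.pair_iff.1 hli 1 (-a) (by rw [← ha]; module)).1
        exact one_ne_zero this
      have hnot' : r ∉ Submodule.span F {p} := fun hmem => by
        obtain ⟨a, ha⟩ := Submodule.mem_span_singleton.1 hmem
        have := (LinearIndependent.pair_iff.1 hli (-a) 1 (by rw [← ha]; module)).2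
        exact one_ne_zero this
      obtain ⟨φ, hφ0, hφ1⟩ := exists_dual hnot
      obtain ⟨φ', hφ0', hφ1'⟩ := exists_dual hnot'
      obtain ⟨s, hs⟩ := exists_eq_pol hQ φ
      obtain ⟨t, ht⟩ := exists_eq_pol hQ φ'
      have sp : pol Q s p = 1 := by rw [pol_comm, ← hs, hφ1]
      have sr : pol Q s r = 0 := by rw [pol_comm, ← hs]; exact hφ0 r (Submodule.mem_span_singleton_self r)
      have tp : pol Q t p = 0 := by rw [pol_comm, ← ht]; exact hφ0' p (Submodule.mem_span_singleton_self p)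
      have tr : pol Q t r = 1 := by rw [pol_comm, ← ht, hφ1']
      have hI : ∀ x y, pol Q (mv (g : GL _ F) x) (mv (g : GL _ F) y) = pol Q x y := Orth.pol_mv hQ g.2
      -- images lie in the line
      have himg : ∀ z, ∃ a b : F, mv (g : GL _ F) z - z = a • p + b • r := by
        intro z
        set d := mv (g : GL _ F) z - z with hd
        refine ⟨pol Q d s, pol Q d t, sub_eq_zero.1 (Orth.nondeg_top hQ _ Submodule.mem_top fun w _ => ?_)⟩
        set w' := w - pol Q w p • s - pol Q w r • t with hw'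
        have h1 : pol Q w' p = 0 := by
          simp only [hw', pol_sub_left hQ, pol_smul_left hQ, sp, tp]; ring
        have h2 : pol Q w' r = 0 := by
          simp only [hw', pol_sub_left hQ, pol_smul_left hQ, sr, tr]; ring
        have h3 : pol Q w' d = 0 := by
          have h := hI w' z
          rw [hg w' h1 h2] at h
          rw [hd, pol_sub_right hQ, h, sub_self]
        have h4 : pol Q w d = pol Q w p * pol Q s d + pol Q w r * pol Q t d := by
          rw [hw', pol_sub_left hQ, pol_sub_left hQ, pol_smul_left hQ, pol_smul_left hQ] at h3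
          linear_combination h3
        rw [pol_sub_right hQ, pol_add_right hQ, pol_smul_right hQ, pol_smul_right hQ, h4, pol_comm s d, pol_comm t d]
        ring
      obtain ⟨a, b, hab⟩ := himg s
      obtain ⟨a', b', hab'⟩ := himg t
      rw [sub_eq_iff_eq_add] at hab hab'
      have hq : ∀ x y : F, Q (mv (g : GL _ F) (x • s + y • t)) = Q (x • s + y • t) := fun x y => mem_isometry.1 g.2 _
      have gen : ∀ x y : F, x * (x * a + y * a') + y * (x * b + y * b') = 0 := fun x y => by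
        have h := hq x y
        rw [mv_add, mv_smul, mv_smul, hab, hab', show x • (a • p + b • r + s) + y • (a' • p + b' • r + t) =
          ((x * a + y * a') • p + (x * b + y * b') • r) + (x • s + y • t) by module, q_add hQ] at h
        rw [show Q ((x * a + y * a') • p + (x * b + y * b') • r) = 0 by
          rw [q_add hQ, q_smul hQ, q_smul hQ, pol_smul_left hQ, pol_smul_right hQ, hp, hr, hpr]; ring] at h
        simp only [pol_add_left hQ, pol_smul_left hQ, pol_add_right hQ, pol_smul_right hQ, pol_comm p s, pol_comm p t,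
          pol_comm r s, pol_comm r t, sp, sr, tp, tr] at h
        linear_combination h
      have ha : a = 0 := by linear_combination gen 1 0
      have hb' : b' = 0 := by linear_combination gen 0 1
      have hba : a' = -b := by linear_combination gen 1 1 - gen 1 0 - gen 0 1
      refine ⟨b, Subtype.ext (ext_mv fun z => ?_)⟩
      show mv (O.subtype (R.T _ b)) z = _
      rw [hR]
      conv_rhs => rw [show z = (z - pol Q z p • s - pol Q z r • t) + (pol Q z p • s + pol Q z r • t) by abel]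
      rw [mv_add, hg _ (by simp only [pol_sub_left hQ, pol_smul_left hQ, sp, tp]; ring)
        (by simp only [pol_sub_left hQ, pol_smul_left hQ, sr, tr]; ring), mv_add, mv_smul, mv_smul, hab, hab', ha, hb', hba]
      module
    · rintro _ ⟨c, rfl⟩
      refine Subgroup.subset_closure fun v h1 h2 => ?_
      have h := hR ⟨(p, r), hl⟩ c v
      simp only [h1, h2, zero_smul, sub_zero, smul_zero, add_zero] at h
      exact h
  have hline : ∀ {p r : Fin (m + 3) ⊕ Fin (m + 3) → F}, Q p = 0 → Q r = 0 → (Q (p + r) = 0 ↔ pol Q p r = 0) :=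
    fun {p r} hp hr => by rw [q_add hQ, hp, hr, zero_add, zero_add]
  have hroots : siegelMembers F m = R.roots := by
    ext A
    constructor
    · rintro ⟨p, r, hli, hp, hr, hpr, rfl⟩
      exact ⟨⟨(p, r), hli, hp, hr, (hline hp hr).1 hpr⟩, (hmem p r ⟨hli, hp, hr, (hline hp hr).1 hpr⟩).symm⟩
    · rintro ⟨⟨⟨p, r⟩, hli, hp, hr, hpr⟩, rfl⟩
      exact ⟨p, r, hli, hp, hr, (hline hp hr).2 hpr, (hmem p r ⟨hli, hp, hr, hpr⟩).symm⟩
  have hG : ∀ l c, R.T l c ∈ G₀ := fun l c =>
    Subgroup.mem_iSup_of_mem (R.grp l) (Subgroup.mem_iSup_of_mem (hroots ▸ (⟨l, rfl⟩ : R.grp l ∈ R.roots)) ⟨c, rfl⟩)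
  let R₀ : Fam ↥G₀ F (LinePoint Q) :=
    { T := fun l c => ⟨R.T l c, hG l c⟩
      add := fun l a b => Subtype.ext (R.add l a b)
      ne := fun l h => R.ne l (congrArg Subtype.val h) }
  let emb₀ : ↥G₀ →* GL (Fin (m + 3) ⊕ Fin (m + 3)) F := O.subtype.comp G₀.subtype
  have hemb₀ : Function.Injective emb₀ := Subtype.coe_injective.comp Subtype.coe_injective
  have hR₀ : ∀ (l : LinePoint Q) c x, mv (emb₀ (R₀.T l c)) x =
      x + c • (pol Q x l.1.1 • l.1.2 - pol Q x l.1.2 • l.1.1) := hT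
  have hgen : ∀ H : Subgroup ↥G₀, (∀ l c, R₀.T l c ∈ H) → H = ⊤ := by
    intro H h
    have hle : G₀ ≤ H.map G₀.subtype := by
      refine iSup₂_le fun B hB => ?_
      rw [hroots] at hB
      obtain ⟨l, rfl⟩ := hB
      rintro _ ⟨c, rfl⟩
      exact ⟨_, h l c, rfl⟩
    refine eq_top_iff.2 fun g _ => ?_
    obtain ⟨g', hg', he⟩ := hle g.2
    rwa [← Subtype.ext he]
  have hconj : ∀ (g : ↥G₀) l, ∃ l', Cfsg.conjBy (R₀.grp l) g = R₀.grp l' := by
    intro g l
    have hgI : emb₀ g ∈ Cfsg.isometryGroup F Q := g.1.2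
    obtain ⟨hli, hp, hr, hpr⟩ := l.2
    have hi : Function.Injective (mvLin (emb₀ g)) := fun x y h => mv_inj (emb₀ g) (by simpa using h)
    let l' : LinePoint Q := ⟨(mv (emb₀ g) l.1.1, mv (emb₀ g) l.1.2), by
      refine ⟨?_, (mem_isometry.1 hgI _).trans hp, (mem_isometry.1 hgI _).trans hr, (Orth.pol_mv hQ hgI _ _).trans hpr⟩
      rw [LinearIndependent.pair_iff]
      intro s t hst
      refine LinearIndependent.pair_iff.1 hli s t (mv_inj (emb₀ g) ?_)
      rw [mv_add, mv_smul, mv_smul, mv_zero]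
      exact hst⟩
    have key : ∀ c, g * R₀.T l c * g⁻¹ = R₀.T l' c := fun c => hemb₀ (ext_mv fun x => by
      obtain ⟨z, rfl⟩ : ∃ z, x = mv (emb₀ g) z := ⟨mv (emb₀ g)⁻¹ x, (mv_mv_inv _ x).symm⟩
      rw [map_mul, map_mul, map_inv, mv_mul, mv_mul, mv_inv_mv, hR₀, hR₀]
      simp only [l', Orth.pol_mv hQ hgI, mv_add, mv_smul, mv_sub])
    refine ⟨l', ?_⟩
    ext x
    constructor
    · rintro ⟨_, ⟨c, rfl⟩, rfl⟩
      exact ⟨c, (key c).symm⟩
    · rintro ⟨c, rfl⟩
      exact ⟨_, ⟨c, rfl⟩, key c⟩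
  have himage : (fun A : Subgroup O => A.subgroupOf G₀) '' siegelMembers F m = R₀.roots := by
    rw [hroots, Fam.roots, ← Set.range_comp]
    refine congrArg Set.range (funext fun l => ?_)
    ext x
    show (x : O) ∈ R.grp l ↔ x ∈ R₀.grp l
    exact ⟨fun ⟨c, hc⟩ => ⟨c, Subtype.ext hc⟩, fun ⟨c, hc⟩ => ⟨c, congrArg Subtype.val hc⟩⟩
  refine ⟨?_, ?_⟩
  · rw [himage]
    exact R₀.isKRootSubgroupSet hgen hconj (line_pair emb₀ hemb₀ R₀ hR₀ hQ)
  · rw [hroots]
    exact line_connected O.subtype Subtype.coe_injective R hR hQ (by simp; omega)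

end Cfsg.Agent.RootClass
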