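/-
The class of isotropic transvection subgroups inside the group they generate in a special unitary group.
-/
import Cfsg.Agent.Lib.RootClass.Linear
import Cfsg.Agent.Lib.Transvec.HermGen
import Cfsg.Agent.Lib.Transvec.HermStd
set_option autoImplicit false

namespace Cfsg.Agent.RootClass

open Cfsg.Agent.Timmesfeld Cfsg.Agent.Transvec Cfsg.Agent.Transvec.Herm
open Matrix

section

variable {ι : Type} [Fintype ι] [DecidableEq ι] {F : Type*} [Field F]
variable {σ : F ≃+* F} {f : (ι → F) → (ι → F) → F} (hf : Geo.IsUnitaryForm σ f)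
variable {L : Type*} [Field L] (ε : L →+* F) {τ : F}
variable {G : Type*} [Group G] (emb : G →* GL ι F) (hemb : Function.Injective emb)

/-- Isotropic non-zero vectors. -/
abbrev IsoPoint (f : (ι → F) → (ι → F) → F) : Type _ := {p : ι → F // p ≠ 0 ∧ f p p = 0}

variable (R : Fam G L (IsoPoint f)) (hR : ∀ p c, emb (R.T p c) = htv hf p.1 p.2.2 (τ * ε c))
include hR hemb hf

theorem unitary_comm {p q : IsoPoint f} (h : f p.1 q.1 = 0) : R.Comm p q := fun c d =>
  hemb (ext_mv fun x => by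
    simp only [map_mul, hR, mv_mul, mv_htv, hf.add_left, hf.smul_left, h, (f_eq_zero_comm hf).1 h, mul_zero,
      add_zero]
    module)

variable (hε : ∀ y : F, σ y = y → ∃ c, ε c = y) (hτ : τ ≠ 0) (hτ' : σ τ = -τ)
include hε hτ hτ'

theorem unitary_linked {p q : IsoPoint f} (h : f p.1 q.1 ≠ 0) : R.Linked p q := by
  have h' : f q.1 p.1 ≠ 0 := fun h0 => h ((f_eq_zero_comm hf).1 h0)
  set a := τ * f q.1 p.1 with ha
  have ha0 : a ≠ 0 := mul_ne_zero hτ h'
  have hfix : σ ((τ * (τ * f q.1 p.1 * f p.1 q.1))⁻¹) = (τ * (τ * f q.1 p.1 * f p.1 q.1))⁻¹ := by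
    rw [map_inv₀, map_mul, map_mul, map_mul, hτ', ← hf.herm p.1 q.1, ← hf.herm q.1 p.1]; ring
  obtain ⟨ν, hν⟩ := hε _ hfix
  have hν0 : ν ≠ 0 := fun h0 => by
    rw [h0, map_zero] at hν
    exact inv_ne_zero (mul_ne_zero hτ (mul_ne_zero (mul_ne_zero hτ h') h)) hν.symm
  let mapL := Matrix.SpecialLinearGroup.map (n := Fin 2) ε
  have hup : ∀ c : L, mapL (upperSL c) = upperSL (ε c) := fun c => by
    ext i j; fin_cases i <;> fin_cases j <;> simp [mapL]
  have hlo : ∀ c : L, mapL (lowerSL c) = lowerSL (ε c) := fun c => by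
    ext i j; fin_cases i <;> fin_cases j <;> simp [mapL]
  have hmap : Function.Injective mapL := fun g₁ g₂ he => by
    ext i j
    exact ε.injective (congrFun (congrFun (congrArg (fun g : Matrix.SpecialLinearGroup (Fin 2) F =>
      (g : Matrix (Fin 2) (Fin 2) F)) he) i) j)
  have p1 : ((a * f p.1 q.1)⁻¹ • formH hf q.1) (a • p.1) = 1 := by
    simp [formH_apply, hf.smul_left]; field_simp
  have p2 : ((a * f p.1 q.1)⁻¹ • formH hf q.1) q.1 = 0 := by simp [formH_apply, q.2.2]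
  have p3 : ((f q.1 p.1)⁻¹ • formH hf p.1) (a • p.1) = 0 := by simp [formH_apply, p.2.2]
  have p4 : ((f q.1 p.1)⁻¹ • formH hf p.1) q.1 = 1 := by simp [formH_apply, h']
  let ψ := (planeHom p1 p2 p3 p4).comp mapL
  have hψ : Function.Injective ψ := (planeHom_injective p1 p2 p3 p4).comp hmap
  have hr : ∀ g, ψ g ∈ emb.range := by
    intro g
    have hle : Cfsg.lowerUnipotentSL2 L ⊔ Cfsg.upperUnipotentSL2 L ≤ emb.range.comap ψ := by
      refine sup_le (fun x hx => ?_) fun x hx => ?_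
      · obtain ⟨c, rfl⟩ := mem_lower.1 hx
        refine ⟨R.T q (ν * c), ext_mv fun x => ?_⟩
        rw [hR, mv_htv, MonoidHom.comp_apply, hlo, planeHom_lower, LinearMap.smul_apply, formH_apply, smul_eq_mul,
          map_mul, hν, ha]
        field_simp
      · obtain ⟨c, rfl⟩ := mem_upper.1 hx
        refine ⟨R.T p c, ext_mv fun x => ?_⟩
        rw [hR, mv_htv, MonoidHom.comp_apply, hup, planeHom_upper, LinearMap.smul_apply, formH_apply, smul_eq_mul,
          smul_smul, ha]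
        congr 2
        field_simp
    rw [(special_SL (k := L)).1.1] at hle
    exact hle (Subgroup.mem_top g)
  let φ : Matrix.SpecialLinearGroup (Fin 2) L →* G :=
    (MonoidHom.ofInjective hemb).symm.toMonoidHom.comp (ψ.codRestrict emb.range hr)
  have hφ : ∀ g, emb (φ g) = ψ g := fun g => by
    simpa [φ] using MonoidHom.apply_ofInjective_symm hemb (ψ.codRestrict emb.range hr g)
  refine ⟨φ, fun a b h => hψ (by rw [← hφ, ← hφ, h]), 1, ν, one_ne_zero, hν0, fun c => hemb (ext_mv fun x => ?_),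
    fun c => hemb (ext_mv fun x => ?_)⟩
  · rw [hφ, one_mul, hR, mv_htv, MonoidHom.comp_apply, hup, planeHom_upper, LinearMap.smul_apply, formH_apply,
      smul_eq_mul, smul_smul, ha]
    congr 2
    field_simp
  · rw [hφ, hR, mv_htv, MonoidHom.comp_apply, hlo, planeHom_lower, LinearMap.smul_apply, formH_apply, smul_eq_mul,
      map_mul, hν, ha]
    field_simp

theorem unitary_pair (p q : IsoPoint f) : R.Comm p q ∨ R.Linked p q :=
  (em (f p.1 q.1 = 0)).imp (unitary_comm hf ε emb hemb R hR) (unitary_linked hf ε emb hemb R hR hε hτ hτ')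

variable [Fintype F]

theorem unitary_path (p q : IsoPoint f) : ∃ r, R.Linked p r ∧ R.Linked r q := by
  suffices H : ∃ r, r ≠ 0 ∧ f r r = 0 ∧ f p.1 r ≠ 0 ∧ f r q.1 ≠ 0 by
    obtain ⟨r, h0, hrr, h1, h2⟩ := H
    exact ⟨⟨r, h0, hrr⟩, unitary_linked hf ε emb hemb R hR hε hτ hτ' h1,
      unitary_linked hf ε emb hemb R hR hε hτ hτ' h2⟩
  have top := nondeg_top hf
  have nz : ∀ {x y : ι → F}, f x y ≠ 0 → y ≠ 0 := fun h h0 => h (by rw [h0, zero_right hf])
  by_cases hpq : f p.1 q.1 = 0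
  · obtain ⟨d, -, hd, hdd⟩ := exists_partner hf top (Submodule.mem_top (x := p.1)) p.2.1 p.2.2
    have hd1 : f p.1 d ≠ 0 := by rw [hd]; exact one_ne_zero
    by_cases hdq : f d q.1 = 0
    swap
    · exact ⟨d, nz hd1, hdd, hd1, hdq⟩
    obtain ⟨e, -, he, hee⟩ := exists_partner hf top (Submodule.mem_top (x := q.1)) q.2.1 q.2.2
    have heq : f e q.1 = 1 := by rw [hf.herm, he, map_one]
    by_cases hpe : f p.1 e = 0
    swap
    · exact ⟨e, nz hpe, hee, hpe, by rw [heq]; exact one_ne_zero⟩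
    obtain ⟨a, ha0, hat⟩ : ∃ a : F, a ≠ 0 ∧ a * f e d + σ (a * f e d) = 0 := by
      by_cases hed : f e d = 0
      · exact ⟨1, one_ne_zero, by rw [hed, mul_zero, map_zero, add_zero]⟩
      · exact ⟨τ / f e d, div_ne_zero hτ hed, by rw [div_mul_cancel₀ _ hed, hτ', add_neg_cancel]⟩
    have hpr : f p.1 (d + a • e) ≠ 0 := by rw [add_right hf, smul_right hf, hpe, mul_zero, add_zero]; exact hd1
    refine ⟨d + a • e, nz hpr, ?_, hpr, ?_⟩
    · simp only [hf.add_left, add_right hf, hf.smul_left, smul_right hf, hdd, hee, mul_zero, add_zero, zero_add]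
      rw [map_mul, ← hf.herm d e] at hat
      linear_combination hat
    · rw [hf.add_left, hf.smul_left, hdq, heq, zero_add, mul_one]; exact ha0
  · have hqp : f q.1 p.1 ≠ 0 := fun h0 => hpq ((f_eq_zero_comm hf).1 h0)
    set c := τ / f q.1 p.1 with hc
    have hpr : f p.1 (p.1 + c • q.1) ≠ 0 := by
      rw [add_right hf, smul_right hf, p.2.2, zero_add]
      exact mul_ne_zero (fun h0 => div_ne_zero hτ hqp (σ.injective (by rw [map_zero]; exact h0))) hpq
    refine ⟨p.1 + c • q.1, nz hpr, ?_, hpr, ?_⟩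
    · simp only [hf.add_left, add_right hf, hf.smul_left, smul_right hf, p.2.2, q.2.2, mul_zero, add_zero, zero_add]
      have h1 : c * f q.1 p.1 = τ := div_mul_cancel₀ _ hqp
      have h2 : σ c * f p.1 q.1 = -τ := by rw [hf.herm p.1 q.1, ← map_mul, h1, hτ']
      linear_combination h1 + h2
    · rw [hf.add_left, hf.smul_left, q.2.2, mul_zero, add_zero]; exact hpq

end

variable {F : Type*} [Field F] [Fintype F] (n q : ℕ)

/-- The unitary transvection subgroups of the standard special unitary group. -/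
def unitaryMembers (F : Type*) [Field F] (n q : ℕ) : Set (Subgroup ↥(Cfsg.SU (n + 2) F q)) :=
  {A : Subgroup ↥(Cfsg.SU (n + 2) F q) | ∃ p : Fin (n + 2) → F, p ≠ 0 ∧ Cfsg.hermForm (n + 2) F q p p = 0 ∧
    A = Subgroup.closure {g : ↥(Cfsg.SU (n + 2) F q) |
      (∀ v : Fin (n + 2) → F, ∃ c : F, ((g : Matrix.SpecialLinearGroup (Fin (n + 2)) F) : Matrix (Fin (n + 2)) (Fin (n + 2)) F) *ᵥ v = v + c • p) ∧
      ∀ v : Fin (n + 2) → F, Cfsg.hermForm (n + 2) F q v p = 0 →
        ((g : Matrix.SpecialLinearGroup (Fin (n + 2)) F) : Matrix (Fin (n + 2)) (Fin (n + 2)) F) *ᵥ v = v}}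

theorem unitary_class (hF : Fintype.card F = q ^ 2) :
    let G₀ := ⨆ B ∈ unitaryMembers F n q, B
    let S := (fun A : Subgroup ↥(Cfsg.SU (n + 2) F q) => A.subgroupOf G₀) '' unitaryMembers F n q
    Cfsg.IsRootSubgroupClass S ∧ Cfsg.IsDegenerateRootSet S ∧
      (∃ (L : Type) (_ : Field L) (_ : Fintype L), Fintype.card L = q ∧ Cfsg.IsKRootSubgroupSet L S) ∧
      Cfsg.IsConnectedFamily (Cfsg.FAdj S) S := by
  classical
  intro G₀ S
  obtain ⟨σ, hσ, hq2, hf⟩ := exists_unitary_std (n := n + 2) hF (by omega)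
  obtain ⟨τ, hτ, hτ'⟩ := exists_anti hf.ne_refl hf.involutive
  let K := fixedField σ
  haveI : Finite K := inferInstance
  haveI : Small.{0} K := inferInstance
  let L : Type := Shrink.{0} K
  let e : L ≃+* K := Shrink.ringEquiv K
  haveI : Fintype L := Fintype.ofEquiv K e.symm.toEquiv
  have hcardL : Fintype.card L = q := by
    have h := card_eq_sq hf.ne_refl hf.involutive
    rw [Nat.card_eq_fintype_card, hF] at h
    rw [← Nat.card_eq_fintype_card, Nat.card_congr e.toEquiv]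
    exact (Nat.pow_left_injective two_ne_zero h).symm
  let ε : L →+* F := K.subtype.comp e.toRingHom
  have hε : ∀ y : F, σ y = y → ∃ c, ε c = y := fun y hy => ⟨e.symm ⟨y, hy⟩, by simp [ε]⟩
  have hanti : ∀ c : L, σ (τ * ε c) = -(τ * ε c) := fun c => by
    rw [map_mul, hτ', show σ (ε c) = ε c from (e c).2, neg_mul]
  let toSL : IsoPoint (Cfsg.hermForm (n + 2) F q) → L → Matrix.SpecialLinearGroup (Fin (n + 2)) F := fun p c =>
    ⟨((htv hf p.1 p.2.2 (τ * ε c) : GL (Fin (n + 2)) F) : Matrix _ _ F), by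
      have h := htv_mem_specialLinear hf p.1 p.2.2 (τ * ε c)
      rw [Geo.specialLinear, MonoidHom.mem_ker] at h
      rw [← Matrix.GeneralLinearGroup.val_det_apply, h, Units.val_one]⟩
  let toSU : IsoPoint (Cfsg.hermForm (n + 2) F q) → L → ↥(Cfsg.SU (n + 2) F q) := fun p c =>
    ⟨toSL p c, fun x y => htv_mem hf p.1 p.2.2 (hanti c) x y⟩
  let inc : ↥(Cfsg.SU (n + 2) F q) →* GL (Fin (n + 2)) F :=
    Matrix.SpecialLinearGroup.toGL.comp (Cfsg.SU (n + 2) F q).subtype
  have hinc : Function.Injective inc := Matrix.SpecialLinearGroup.toGL_injective.comp Subtype.coe_injective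
  have htoSU : ∀ p c, inc (toSU p c) = htv hf p.1 p.2.2 (τ * ε c) := fun p c => Units.ext rfl
  -- the members
  have hmem : ∀ (p : IsoPoint (Cfsg.hermForm (n + 2) F q)),
      (Subgroup.closure {g : ↥(Cfsg.SU (n + 2) F q) |
        (∀ v : Fin (n + 2) → F, ∃ c : F, ((g : Matrix.SpecialLinearGroup (Fin (n + 2)) F) : Matrix (Fin (n + 2)) (Fin (n + 2)) F) *ᵥ v = v + c • p.1) ∧
        ∀ v : Fin (n + 2) → F, Cfsg.hermForm (n + 2) F q v p.1 = 0 →
          ((g : Matrix.SpecialLinearGroup (Fin (n + 2)) F) : Matrix (Fin (n + 2)) (Fin (n + 2)) F) *ᵥ v = v} :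
        Set ↥(Cfsg.SU (n + 2) F q)) = Set.range (toSU p) := by
    intro p
    let H : Subgroup ↥(Cfsg.SU (n + 2) F q) :=
      { carrier := Set.range (toSU p)
        one_mem' := ⟨0, hinc (by rw [htoSU, map_zero, mul_zero, htv_zero, map_one])⟩
        mul_mem' := by
          rintro _ _ ⟨a, rfl⟩ ⟨b, rfl⟩
          exact ⟨a + b, hinc (by rw [map_mul, htoSU, htoSU, htoSU, htv_add, map_add, mul_add])⟩
        inv_mem' := by
          rintro _ ⟨a, rfl⟩
          refine ⟨-a, hinc ?_⟩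
          rw [map_inv, htoSU, htoSU]
          exact eq_inv_of_mul_eq_one_right (by rw [htv_add, map_neg, mul_neg, add_neg_cancel, htv_zero]) }
    suffices Subgroup.closure _ = H from congrArg SetLike.coe this
    refine le_antisymm ((Subgroup.closure_le _).2 ?_) ?_
    · rintro g ⟨hg1, hg2⟩
      choose ψ hψ using hg1
      obtain ⟨x₀, hx₀⟩ : ∃ x, Cfsg.hermForm (n + 2) F q x p.1 = 1 := by
        obtain ⟨d, -, hd, -⟩ := Herm.exists_partner hf (nondeg_top hf) (Submodule.mem_top (x := p.1)) p.2.1 p.2.2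
        exact ⟨d, by rw [hf.herm, hd, map_one]⟩
      set l := ψ x₀ with hl
      have hgl : ∀ v, mv (inc g) v = v + (l * Cfsg.hermForm (n + 2) F q v p.1) • p.1 := fun v => by
        conv_lhs => rw [show v = (v - Cfsg.hermForm (n + 2) F q v p.1 • x₀) + Cfsg.hermForm (n + 2) F q v p.1 • x₀ by abel]
        have e2 : mv (inc g) x₀ = x₀ + l • p.1 := hψ x₀
        rw [mv_add, mv_smul, e2, show mv (inc g) (v - Cfsg.hermForm (n + 2) F q v p.1 • x₀) = _ from
          hg2 _ (by rw [sub_left hf, hf.smul_left, hx₀, mul_one, sub_self])]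
        module
      have hl' : l + σ l = 0 := by
        have h := g.2 x₀ x₀
        change Cfsg.hermForm (n + 2) F q (mv (inc g) x₀) (mv (inc g) x₀) = _ at h
        rw [hgl, hx₀, mul_one, hf.add_left, add_right hf, add_right hf, hf.smul_left, hf.smul_left, smul_right hf,
          smul_right hf, p.2.2, hx₀, hf.herm p.1 x₀, hx₀, map_one] at h
        linear_combination h
      obtain ⟨c, hc⟩ := hε (l / τ) (by rw [map_div₀, hτ', eq_neg_of_add_eq_zero_right hl', neg_div_neg_eq])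
      exact ⟨c, hinc (ext_mv fun v => by rw [htoSU, mv_htv, hgl, hc, mul_div_cancel₀ _ hτ])⟩
    · rintro _ ⟨c, rfl⟩
      refine Subgroup.subset_closure ⟨fun v => ⟨τ * ε c * Cfsg.hermForm (n + 2) F q v p.1, ?_⟩, fun v hv => ?_⟩
      · exact mv_htv hf p.1 p.2.2 _ v
      · exact htv_fix hf p.1 p.2.2 _ hv
  have hG : ∀ p c, toSU p c ∈ G₀ := fun p c =>
    Subgroup.mem_iSup_of_mem _ (Subgroup.mem_iSup_of_mem (show Subgroup.closure _ ∈ unitaryMembers F n q from
      ⟨p.1, p.2.1, p.2.2, rfl⟩) ((hmem p).ge ⟨c, rfl⟩))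
  let emb : ↥G₀ →* GL (Fin (n + 2)) F := inc.comp G₀.subtype
  have hemb : Function.Injective emb := hinc.comp Subtype.coe_injective
  let R : Fam ↥G₀ L (IsoPoint (Cfsg.hermForm (n + 2) F q)) :=
    { T := fun p c => ⟨toSU p c, hG p c⟩
      add := fun p a b => hemb (by
        show inc (toSU p (a + b)) = inc (toSU p a * toSU p b)
        rw [map_mul, htoSU, htoSU, htoSU, htv_add, map_add, mul_add])
      ne := fun p h => by
        obtain ⟨x, -, hx, -⟩ := Herm.exists_partner hf (nondeg_top hf) (Submodule.mem_top (x := p.1)) p.2.1 p.2.2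
        have h1 := congrArg (fun g => mv (emb g) x) h
        simp only [emb, MonoidHom.comp_apply, Subgroup.coe_subtype, htoSU, map_one, mv_htv, mv_one,
          add_eq_left, smul_eq_zero, mul_one] at h1
        rcases h1 with h1 | h1
        · refine mul_ne_zero hτ ?_ h1
          rw [hf.herm, hx, map_one]; exact one_ne_zero
        · exact p.2.1 h1 }
  have hR : ∀ p c, emb (R.T p c) = htv hf p.1 p.2.2 (τ * ε c) := htoSU
  have hgrp : ∀ p : IsoPoint (Cfsg.hermForm (n + 2) F q), ∀ A ∈ unitaryMembers F n q,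
      (A : Set ↥(Cfsg.SU (n + 2) F q)) = Set.range (toSU p) → A.subgroupOf G₀ = R.grp p := fun p A _ hA => by
    ext x
    rw [Subgroup.mem_subgroupOf, ← SetLike.mem_coe, hA]
    exact ⟨fun ⟨c, hc⟩ => ⟨c, Subtype.ext hc⟩, fun ⟨c, hc⟩ => ⟨c, congrArg Subtype.val hc⟩⟩
  have hS : S = R.roots := by
    ext A
    constructor
    · rintro ⟨B, hB, rfl⟩
      obtain ⟨p, hp, hpp, rfl⟩ := hB
      exact ⟨⟨p, hp, hpp⟩, (hgrp _ _ ⟨p, hp, hpp, rfl⟩ (hmem ⟨p, hp, hpp⟩)).symm⟩
    · rintro ⟨p, rfl⟩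
      exact ⟨_, ⟨p.1, p.2.1, p.2.2, rfl⟩, hgrp p _ ⟨p.1, p.2.1, p.2.2, rfl⟩ (hmem p)⟩
  have hgen : ∀ H : Subgroup ↥G₀, (∀ p c, R.T p c ∈ H) → H = ⊤ := by
    intro H h
    have hle : G₀ ≤ H.map G₀.subtype := by
      refine iSup₂_le fun B hB => ?_
      obtain ⟨p, hp, hpp, rfl⟩ := hB
      intro x hx
      obtain ⟨c, rfl⟩ := (hmem ⟨p, hp, hpp⟩).le hx
      exact ⟨_, h ⟨p, hp, hpp⟩ c, rfl⟩
    refine eq_top_iff.2 fun g _ => ?_
    obtain ⟨g', hg', he⟩ := hle g.2
    rwa [← Subtype.ext he]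
  have hconj : ∀ (g : ↥G₀) p, ∃ r, Cfsg.conjBy (R.grp p) g = R.grp r := by
    intro g p
    have hg : ∀ x y, Cfsg.hermForm (n + 2) F q (mv (emb g) x) (mv (emb g) y) = Cfsg.hermForm (n + 2) F q x y :=
      fun x y => g.1.2 x y
    let r : IsoPoint (Cfsg.hermForm (n + 2) F q) :=
      ⟨mv (emb g) p.1, fun h => p.2.1 (mv_inj _ (h.trans (mv_zero _).symm)), (hg _ _).trans p.2.2⟩
    have key : ∀ c, g * R.T p c * g⁻¹ = R.T r c := fun c => hemb (by
      rw [map_mul, map_mul, map_inv, hR, hR, htv_conj hf hg])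
    refine ⟨r, ?_⟩
    ext x
    constructor
    · rintro ⟨_, ⟨c, rfl⟩, rfl⟩
      exact ⟨c, (key c).symm⟩
    · rintro ⟨c, rfl⟩
      exact ⟨_, ⟨c, rfl⟩, key c⟩
  haveI : Nonempty (IsoPoint (Cfsg.hermForm (n + 2) F q)) := by
    obtain ⟨e, -, he0, hee⟩ := exists_isotropic hf (nondeg_top hf) (by rw [finrank_top, Module.finrank_fin_fun]; omega)
    exact ⟨⟨e, he0, hee⟩⟩
  have hp2 := unitary_pair hf ε emb hemb R hR hε hτ hτ'
  have hpath := unitary_path hf ε emb hemb R hR hε hτ hτ'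
  have hp3 : ∀ p r, R.Comm p r ∨ R.Linked p r ∨ R.Bracket p r := fun p r => (hp2 p r).imp_right Or.inl
  rw [hS]
  exact ⟨⟨R.isRootSubgroupSet hgen hconj hp3, R.conjClass hpath⟩, R.isDegenerate hp2,
    ⟨L, inferInstance, inferInstance, hcardL, R.isKRootSubgroupSet hgen hconj hp3⟩, R.connected hpath⟩

end Cfsg.Agent.RootClass
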